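import Cfsg.Agent.Lib.Golay.Octads

/-! Lists of masks meeting every octad, dodecad, pair, triple, sextet and trio. -/

set_option autoImplicit false

namespace CfsgLib.M24Orbits

open Cfsg

/-- The masks of the code words, in the order of their indices. -/
def codeList : List ℕ := (List.range 4096).map Golay.comb

/-- The masks of the octads. -/
def octadList : List ℕ := codeList.filter fun c => Nat.beq (Golay.pc24 c) 8

/-- The masks of the dodecads. -/
def dodecadList : List ℕ := codeList.filter fun c => Nat.beq (Golay.pc24 c) 12

/-- The masks of the dodecads through the extra point. -/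
def dodecadTopList : List ℕ := dodecadList.filter fun c => Nat.testBit c 23

/-- The masks of the pairs of points. -/
def duadList : List ℕ :=
  (List.range 24).flatMap fun j => (List.range j).map fun i => 2 ^ i ||| 2 ^ j

/-- The masks of the triples of points. -/
def triadList : List ℕ :=
  (List.range 24).flatMap fun k => (List.range k).flatMap fun j =>
    (List.range j).map fun i => 2 ^ i ||| 2 ^ j ||| 2 ^ k

/-- The masks of the tetrads through the extra point. -/
def tetradTopList : List ℕ :=
  (List.range 23).flatMap fun k => (List.range k).flatMap fun j =>
    (List.range j).map fun i => 2 ^ 23 ||| 2 ^ i ||| 2 ^ j ||| 2 ^ k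

/-- The lowest zero bit of a mask, as a mask. -/
def lowFree (a : ℕ) : ℕ :=
  let c := 16777215 ^^^ a
  c - (c &&& (c - 1))

/-- Two disjoint octads, the first through the extra point, the second through the first point
outside the first. -/
def trioList : List (ℕ × ℕ) :=
  (octadList.filter fun a => Nat.testBit a 23).flatMap fun a =>
    let p := lowFree a
    (octadList.filter fun b => Nat.beq (a &&& b) 0 && !(Nat.beq (p &&& b) 0)).map fun b => (a, b)

/-- The family lists the mask. -/
def hasMask (b : ℕ) (r : List ℕ) : Bool := r.any (Nat.beq b)

/-- The family lists both masks. -/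
def hasMasks (b : ℕ × ℕ) (r : List ℕ) : Bool := r.any (Nat.beq b.1) && r.any (Nat.beq b.2)

end CfsgLib.M24Orbits
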