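import Cfsg.Agent.Lib.M24Orbits.Cert
import Cfsg.Agent.Lib.M24Orbits.Reps
import Cfsg.Agent.Lib.GolayDesign.Octads

/-!
Consequences of a successful certificate at an arbitrary object of the same orbit, and the invariants
used to separate classes.
-/

set_option autoImplicit false

namespace CfsgLib.M24Orbits

open Cfsg MulAction
open scoped Pointwise

namespace Cert

variable {α β X : Type} [MulAction (Equiv.Perm GolayPt) X] [DecidableEq X] {c : Cert α}
  {C : Coding α X} {rel : β → α → Bool} {reps : List β}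

/-- The suborbit structure, with membership and distinctness of representatives derived. -/
noncomputable def subDeg' (h : c.ok C rel reps = true) {Ω : Set X}
    (hinv : ∀ g : M24, ∀ y ∈ Ω, g • y ∈ Ω) (ha : C.dec c.base ∈ Ω)
    (hcov : ∀ y ∈ Ω, ∃ b ∈ reps, ∀ r, rel b r = true → C.dec r ∈ Ω → C.dec r = y)
    (hΩ : Ω.Finite) (htotal : Ω.ncard = 1 + c.sizes.sum)
    {κ : Type} (f : X → κ) (hf : ∀ g ∈ stabilizer M24 (C.dec c.base), ∀ y ∈ Ω, f (g • y) = f y)
    (hinj : Function.Injective fun i => f (c.rep C i))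
    (hne : ∀ i, f (c.rep C i) ≠ f (C.dec c.base)) :
    SubDeg M24 Ω (C.dec c.base) c.classes.length :=
  c.subDeg h hinv ha (fun i => by
      have h1 := (mover_spec h i).1
      have h2 := orbit_eq_iff.2 h1
      have : c.rep C i ∈ orbit (stabilizer M24 (C.dec c.base)) (mover h i • C.dec c.base) := by
        rw [h2]; exact mem_orbit_self _
      obtain ⟨s, hs⟩ := this
      rw [← hs]
      exact hinv s.1 _ (hinv _ _ ha))
    (fun i e => hne i (congrArg f e)) hcov hΩ htotal f hf hinj

end Cert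

namespace SubDeg

variable {G X : Type*} [Group G] [MulAction G X] {Ω : Set X} {a : X} {n : ℕ} (D : SubDeg G Ω a n)

include D in
theorem eq_cover_at (k : G) :
    Ω = {k • a} ∪ ⋃ i, orbit (stabilizer G (k • a)) (k • D.rep i) := by
  ext y
  simp only [Set.mem_union, Set.mem_singleton_iff, Set.mem_iUnion, orbit_stabilizer_smul,
    Set.mem_image]
  constructor
  · intro hy
    have h := D.inv k⁻¹ y hy
    rw [D.eq_cover] at h
    simp only [Set.mem_union, Set.mem_singleton_iff, Set.mem_iUnion] at h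
    rcases h with h | ⟨i, hi⟩
    · exact .inl (by rw [← h, smul_inv_smul])
    · exact .inr ⟨i, _, hi, smul_inv_smul _ _⟩
  · rintro (rfl | ⟨i, x, hx, rfl⟩)
    · exact D.inv k a D.a_mem
    · exact D.inv k x (D.f_orbit hx).1

theorem ncard_orbit_at (k : G) (i : Fin n) :
    (orbit (stabilizer G (k • a)) (k • D.rep i)).ncard = D.len i := by
  rw [ncard_orbit_stabilizer_smul, D.ncard_orbit]

theorem rep_at_mem (k : G) (i : Fin n) : k • D.rep i ∈ Ω := D.inv k _ (D.rep_mem i)

theorem exists_class {y : X} (hy : y ∈ Ω) (hne : y ≠ a) :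
    ∃ i, y ∈ orbit (stabilizer G a) (D.rep i) := by
  rw [D.eq_cover] at hy
  simpa [hne] using hy

theorem same_class {y y' : X} (hy : y ∈ Ω) (hy' : y' ∈ Ω) (hne : y ≠ a) (hne' : y' ≠ a)
    (hf : D.f y = D.f y') : ∃ s : G, s • a = a ∧ s • y = y' := by
  obtain ⟨i, hi⟩ := D.exists_class hy hne
  have h' : y' ∈ orbit (stabilizer G a) (D.rep i) := by
    rw [D.orbit_eq]
    exact ⟨hy', hne', hf.symm.trans (D.f_orbit hi).2.2⟩
  rw [← orbit_eq_iff.2 hi] at h'
  obtain ⟨s, hs⟩ := h'
  exact ⟨s.1, s.2, hs⟩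

theorem ncard_class (i : Fin n) :
    {y | y ∈ Ω ∧ y ≠ a ∧ D.f y = D.f (D.rep i)}.ncard = D.len i := by
  rw [← D.orbit_eq, D.ncard_orbit]

end SubDeg

/-- The sum of squares of the meets of two families. -/
def meetCode (A B : Finset (Finset GolayPt)) : ℕ := ∑ t ∈ A, ∑ u ∈ B, (t ∩ u).card ^ 2

theorem meetCode_smul (g : Equiv.Perm GolayPt) (A B : Finset (Finset GolayPt)) :
    meetCode (g • A) (g • B) = meetCode A B := by
  simp only [meetCode, Finset.smul_finset_def (s := A), Finset.smul_finset_def (s := B),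
    Finset.sum_image (MulAction.injective g).injOn, ← Finset.smul_finset_inter,
    Finset.card_smul_finset]

theorem meetCode_inv {a : Finset (Finset GolayPt)} (g : M24) (hg : g ∈ stabilizer M24 a)
    (y : Finset (Finset GolayPt)) : meetCode a (g • y) = meetCode a y := by
  have e : (g : Equiv.Perm GolayPt) • a = a := hg
  conv_lhs => rw [← e]
  exact meetCode_smul _ _ _

theorem inter_inv {a : Finset GolayPt} (g : M24) (hg : g ∈ stabilizer M24 a) (y : Finset GolayPt) :
    (a ∩ g • y).card = (a ∩ y).card := by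
  have e : (g : Equiv.Perm GolayPt) • a = a := hg
  conv_lhs => rw [← e]
  show ((g : Equiv.Perm GolayPt) • a ∩ (g : Equiv.Perm GolayPt) • y).card = _
  rw [← Finset.smul_finset_inter, Finset.card_smul_finset]

theorem toSet_two_pow {i : ℕ} (hi : i < 24) : Golay.toSet (2 ^ i) = {Golay.pt i} := by
  ext p
  rw [Golay.mem_toSet, Nat.testBit_two_pow, decide_eq_true_eq, Finset.mem_singleton]
  exact ⟨fun h => by rw [h, Golay.pt_bit], fun h => by rw [h, Golay.bit_pt hi]⟩

theorem smul_mem_octads (g : M24) {o : Finset GolayPt} (ho : o ∈ octads) : g • o ∈ octads :=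
  smul_mem_wordsOfWeight g.2 ho

theorem smul_mem_dodecads (g : M24) {d : Finset GolayPt} (hd : d ∈ dodecads) : g • d ∈ dodecads :=
  smul_mem_wordsOfWeight g.2 hd

theorem smul_mem_sextets (g : M24) {S : Finset (Finset GolayPt)} (hS : S ∈ sextets) :
    g • S ∈ sextets := by
  show (g : Equiv.Perm GolayPt) • S ∈ sextets
  refine ⟨by rw [Finset.card_smul_finset]; exact hS.1, fun t ht => ?_, fun t ht u hu hne => ?_⟩
  · obtain ⟨t', ht', rfl⟩ := Finset.mem_smul_finset.1 ht
    rw [Finset.card_smul_finset]; exact hS.2.1 t' ht'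
  · obtain ⟨t', ht', rfl⟩ := Finset.mem_smul_finset.1 ht
    obtain ⟨u', hu', rfl⟩ := Finset.mem_smul_finset.1 hu
    rw [← Finset.smul_finset_union]
    exact smul_mem_octads g (hS.2.2 t' ht' u' hu' fun e => hne (by rw [e]))

theorem smul_mem_trios (g : M24) {T : Finset (Finset GolayPt)} (hT : T ∈ trios) :
    g • T ∈ trios := by
  show (g : Equiv.Perm GolayPt) • T ∈ trios
  refine ⟨by rw [Finset.card_smul_finset]; exact hT.1, fun t ht => ?_, fun t ht u hu hne => ?_⟩
  · obtain ⟨t', ht', rfl⟩ := Finset.mem_smul_finset.1 ht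
    exact smul_mem_octads g (hT.2.1 t' ht')
  · obtain ⟨t', ht', rfl⟩ := Finset.mem_smul_finset.1 ht
    obtain ⟨u', hu', rfl⟩ := Finset.mem_smul_finset.1 hu
    rw [Finset.disjoint_iff_inter_eq_empty, ← Finset.smul_finset_inter,
      Finset.disjoint_iff_inter_eq_empty.1 (hT.2.2 t' ht' u' hu' fun e => hne (by rw [e]))]
    simp

theorem exists_octadList {o : Finset GolayPt} (ho : o ∈ octads) :
    ∃ b ∈ octadList, Golay.toSet b = o := by
  obtain ⟨x, hx, hk, e⟩ := Golay.mem_wordsOfWeight_iff.1 ho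
  refine ⟨Golay.comb x, List.mem_filter.2 ⟨List.mem_map.2 ⟨x, List.mem_range.2 hx, rfl⟩, ?_⟩, e⟩
  rw [Golay.pc24_eq, hk]
  rfl

theorem exists_dodecadList {d : Finset GolayPt} (hd : d ∈ dodecads) :
    ∃ b ∈ dodecadList, Golay.toSet b = d := by
  obtain ⟨x, hx, hk, e⟩ := Golay.mem_wordsOfWeight_iff.1 hd
  refine ⟨Golay.comb x, List.mem_filter.2 ⟨List.mem_map.2 ⟨x, List.mem_range.2 hx, rfl⟩, ?_⟩, e⟩
  rw [Golay.pc24_eq, hk]
  rfl

theorem mem_of_hasMask {b : ℕ} {r : List ℕ} (h : hasMask b r = true) :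
    Golay.toSet b ∈ famDec r := by
  obtain ⟨x, hx, e⟩ := List.any_eq_true.1 h
  simp only [famDec, List.mem_toFinset, List.mem_map]
  exact ⟨x, hx, by rw [Nat.eq_of_beq_eq_true e]⟩

/-- An octad from its mask. -/
def isOct (n : ℕ) : Bool := Nat.blt n 16777216 && Golay.memb n && Nat.beq (Golay.pc24 n) 8

theorem mem_octads_of_isOct {n : ℕ} (h : isOct n = true) : Golay.toSet n ∈ octads := by
  simp only [isOct, Bool.and_eq_true, Nat.blt_eq, Nat.beq_eq, Golay.pc24_eq] at h
  exact ⟨(Golay.toSet_mem_supports h.1.1).2 h.1.2, by rw [Golay.card_toSet]; exact h.2⟩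

theorem famDec_card {l : List ℕ} (h : (l.all fun x => Nat.blt x 16777216) = true) (hn : l.Nodup) :
    (famDec l).card = l.length := by
  rw [famDec, List.toFinset_card_of_nodup, List.length_map]
  refine hn.map_on fun x hx y hy e => Golay.toSet_inj ?_ ?_ e
  · simpa [Nat.blt_eq] using List.all_eq_true.1 h x hx
  · simpa [Nat.blt_eq] using List.all_eq_true.1 h y hy

theorem famDec_forall {l : List ℕ} {P : Finset GolayPt → Prop} (h : ∀ x ∈ l, P (Golay.toSet x)) :
    ∀ s ∈ famDec l, P s := by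
  intro s hs
  simp only [famDec, List.mem_toFinset, List.mem_map] at hs
  obtain ⟨x, hx, rfl⟩ := hs
  exact h x hx

end CfsgLib.M24Orbits
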