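import Cfsg.Agent.Lib.M24Orbits.OctadCheck
import Cfsg.Agent.Lib.M24Orbits.Suborbits

/-! The group of the code on octads. -/

set_option autoImplicit false

namespace CfsgLib.M24Orbits

open Cfsg MulAction
open scoped Pointwise

/-- The suborbits on octads. -/
noncomputable def octadDeg : SubDeg M24 octads (Golay.toSet octadCert.base) 3 :=
  Cert.subDeg' octad_ok (fun g _ hy => smul_mem_octads g hy)
    (mem_octads_of_isOct (by decide +kernel))
    (fun y hy => by
      obtain ⟨b, hb, e⟩ := exists_octadList hy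
      exact ⟨b, hb, fun r hr _ => by rw [← Nat.eq_of_beq_eq_true hr]; exact e⟩)
    (Set.toFinite _)
    (by rw [Golay.ncard_octads]; decide +kernel)
    (fun y => (Golay.toSet octadCert.base ∩ y).card)
    (fun g hg y _ => inter_inv g hg y)
    (by
      show ∀ i j : Fin 3, _ → i = j
      decide +kernel)
    (by
      show ∀ i : Fin 3, _
      decide +kernel)

theorem octad_transitive {o : Finset GolayPt} (ho : o ∈ octads) :
    ∃ k : M24, k • Golay.toSet octadCert.base = o :=
  Cert.transitive octad_ok octadDeg rfl o ho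

theorem octad_maximal {o : Finset GolayPt} (ho : o ∈ octads) : IsCoatom (stabilizer M24 o) := by
  obtain ⟨k, rfl⟩ := octad_transitive ho
  exact isCoatom_stabilizer_smul k _ (Cert.isCoatom octad_ok octadDeg rfl octad_closed (by decide))

theorem octad_same_orbit {o o' o'' : Finset GolayPt} (ho : o ∈ octads) (ho' : o' ∈ octads)
    (ho'' : o'' ∈ octads) (h : (o ∩ o').card = (o ∩ o'').card) :
    ∃ g : Equiv.Perm GolayPt, g ∈ M24 ∧ g • o = o ∧ g • o' = o'' := by
  by_cases e : o' = o
  · subst e
    rw [Finset.inter_self] at h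
    have h1 : o' ⊆ o'' := by
      have := Finset.eq_of_subset_of_card_le (Finset.inter_subset_left : o' ∩ o'' ⊆ o') h.le
      exact this ▸ Finset.inter_subset_right
    have := Finset.eq_of_subset_of_card_le h1 (by rw [ho''.2, ho'.2])
    exact ⟨1, one_mem _, one_smul _ _, by rw [one_smul, this]⟩
  have e'' : o'' ≠ o := by
    rintro rfl
    rw [Finset.inter_self, ho''.2] at h
    exact e ((Finset.eq_of_subset_of_card_le ((Finset.eq_of_subset_of_card_le
      (Finset.inter_subset_left : o'' ∩ o' ⊆ o'') (by rw [h, ho''.2])) ▸ Finset.inter_subset_right)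
      (by rw [ho'.2, ho''.2])).symm)
  obtain ⟨k, rfl⟩ := octad_transitive ho
  have cancel : ∀ x : Finset GolayPt, (Golay.toSet octadCert.base ∩ k⁻¹ • x).card
      = (k • Golay.toSet octadCert.base ∩ x).card := fun x => by
    conv_rhs => rw [← smul_inv_smul k x]
    show _ = ((k : Equiv.Perm GolayPt) • Golay.toSet octadCert.base ∩ (k : Equiv.Perm GolayPt) • (k⁻¹ • x)).card
    rw [← Finset.smul_finset_inter, Finset.card_smul_finset]
  obtain ⟨s, hsa, hs⟩ := octadDeg.same_class (octadDeg.inv k⁻¹ _ ho') (octadDeg.inv k⁻¹ _ ho'')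
    (fun x => e (by rw [← x, smul_inv_smul])) (fun x => e'' (by rw [← x, smul_inv_smul]))
    (by
      show (Golay.toSet octadCert.base ∩ k⁻¹ • o').card = (Golay.toSet octadCert.base ∩ k⁻¹ • o'').card
      rw [cancel, cancel]; exact h)
  refine ⟨(k * s * k⁻¹ : M24), SetLike.coe_mem _, ?_, ?_⟩
  · show (k * s * k⁻¹ : M24) • k • Golay.toSet octadCert.base = k • Golay.toSet octadCert.base
    rw [mul_smul, mul_smul, inv_smul_smul, hsa]
  · show (k * s * k⁻¹ : M24) • o' = o''
    rw [mul_smul, mul_smul, hs, smul_inv_smul]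

end CfsgLib.M24Orbits
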