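import Cfsg.Agent.Lib.M24Orbits.SextetCheck
import Cfsg.Agent.Lib.M24Orbits.Suborbits

/-! The group of the code on sextets. -/

set_option autoImplicit false

namespace CfsgLib.M24Orbits

open Cfsg MulAction
open scoped Pointwise

theorem famDec_union_isOct {l : List ℕ} (h : (l.all fun x => l.all fun y => Nat.beq x y || isOct (x ||| y)) = true)
    {t u : Finset GolayPt} (ht : t ∈ famDec l) (hu : u ∈ famDec l) (hne : t ≠ u) :
    t ∪ u ∈ octads := by
  simp only [famDec, List.mem_toFinset, List.mem_map] at ht hu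
  obtain ⟨x, hx, rfl⟩ := ht
  obtain ⟨y, hy, rfl⟩ := hu
  have := List.all_eq_true.1 (List.all_eq_true.1 h x hx) y hy
  rcases Bool.or_eq_true _ _ |>.mp this with e | e
  · exact absurd (by rw [Nat.eq_of_beq_eq_true e]) hne
  · rw [← Golay.toSet_or]; exact mem_octads_of_isOct e

theorem sextetBase_mem : famDec sextetCert.base ∈ sextets :=
  ⟨(famDec_card (by decide +kernel) (by decide +kernel)).trans (by decide +kernel),
    famDec_forall fun x hx => by
      have h : (sextetCert.base.all fun x => Nat.beq (Golay.pc24 x) 4) = true := by decide +kernel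
      rw [Golay.card_toSet, ← Golay.pc24_eq]
      exact Nat.eq_of_beq_eq_true (List.all_eq_true.1 h x hx),
    fun _ ht _ hu hne => famDec_union_isOct (by decide +kernel) ht hu hne⟩

theorem exists_tetradTopList {t : Finset GolayPt} (ht : t.card = 4) (hn : none ∈ t) :
    ∃ b ∈ tetradTopList, Golay.toSet b = t := by
  have hb : ∀ p : GolayPt, p ∈ t.erase none → Golay.bit p < 23 := by
    intro p hp
    have key : ∀ p : GolayPt, p ≠ none → Golay.bit p < 23 := by decide
    exact key p (Finset.mem_erase.1 hp).1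
  have hmask : ∀ n : ℕ, Golay.toSet n = t.erase none → Golay.toSet (2 ^ 23 ||| n) = t := by
    intro n hn'
    rw [Golay.toSet_or, toSet_two_pow (by norm_num), hn', show Golay.pt 23 = none from rfl,
      ← Finset.insert_eq, Finset.insert_erase hn]
  obtain ⟨p, q, r, hpq, hpr, hqr, e⟩ := Finset.card_eq_three.1
    (show (t.erase none).card = 3 by rw [Finset.card_erase_of_mem hn, ht])
  have tr : ∀ a b c : GolayPt, Golay.bit a < Golay.bit b → Golay.bit b < Golay.bit c →
      ({a, b, c} : Finset GolayPt) = t.erase none → ∃ m ∈ tetradTopList, Golay.toSet m = t := by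
    intro a b c h1 h2 e'
    refine ⟨2 ^ 23 ||| 2 ^ Golay.bit a ||| 2 ^ Golay.bit b ||| 2 ^ Golay.bit c,
      List.mem_flatMap.2 ⟨Golay.bit c, List.mem_range.2 (hb c (by rw [← e']; simp)),
        List.mem_flatMap.2 ⟨Golay.bit b, List.mem_range.2 h2,
          List.mem_map.2 ⟨Golay.bit a, List.mem_range.2 h1, rfl⟩⟩⟩, ?_⟩
    rw [Nat.lor_assoc, Nat.lor_assoc]
    apply hmask
    rw [← e', Golay.toSet_or, Golay.toSet_or, toSet_two_pow (Golay.bit_lt a),
      toSet_two_pow (Golay.bit_lt b), toSet_two_pow (Golay.bit_lt c), Golay.pt_bit, Golay.pt_bit,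
      Golay.pt_bit]
    ext x; simp; tauto
  have ne := fun (a b : GolayPt) (h : a ≠ b) (e : Golay.bit a = Golay.bit b) =>
    h (Golay.bit_injective e)
  rcases lt_or_gt_of_ne (ne p q hpq) with h1 | h1 <;>
    rcases lt_or_gt_of_ne (ne p r hpr) with h2 | h2 <;>
    rcases lt_or_gt_of_ne (ne q r hqr) with h3 | h3
  all_goals
    first
      | (exact tr p q r h1 h3 (by rw [e]))
      | (exact tr p r q h2 h3 (by rw [e]; ext x; simp; tauto))
      | (exact tr q p r h1 h2 (by rw [e]; ext x; simp; tauto))
      | (exact tr q r p h3 h2 (by rw [e]; ext x; simp; tauto))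
      | (exact tr r p q h2 h1 (by rw [e]; ext x; simp; tauto))
      | (exact tr r q p h3 h1 (by rw [e]; ext x; simp; tauto))
      | omega

/-- The suborbits on sextets. -/
noncomputable def sextetDeg : SubDeg M24 sextets (famDec sextetCert.base) 3 :=
  Cert.subDeg' sextet_ok (fun g _ hy => smul_mem_sextets g hy) sextetBase_mem
    (fun y hy => by
      obtain ⟨t, ht, hn⟩ : ∃ t ∈ y, none ∈ t := by
        by_contra hno
        simp only [not_exists, not_and] at hno
        have hdis : (y : Set (Finset GolayPt)).PairwiseDisjoint id := fun t ht u hu hne =>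
          GolayDesign.tetrads_disjoint (hy.2.1 t ht) (hy.2.1 u hu) (hy.2.2 t ht u hu hne)
        have h24 : (y.biUnion id).card = 24 := by
          rw [Finset.card_biUnion hdis,
            Finset.sum_congr rfl (fun t ht => show (id t).card = 4 from hy.2.1 t ht), Finset.sum_const, hy.1]
          rfl
        have huniv := Finset.eq_univ_of_card (y.biUnion id) (by rw [h24]; simp)
        have : none ∈ y.biUnion id := huniv ▸ Finset.mem_univ _
        obtain ⟨t, ht, htn⟩ := Finset.mem_biUnion.1 this
        exact hno t ht htn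
      obtain ⟨b, hb, rfl⟩ := exists_tetradTopList (hy.2.1 t ht) hn
      refine ⟨b, hb, fun r hr hrΩ => ?_⟩
      rw [GolayDesign.sextet_eq hy ht]
      exact GolayDesign.sextet_eq hrΩ (mem_of_hasMask hr))
    (Set.toFinite _)
    (by rw [GolayDesign.ncard_sextets]; decide +kernel)
    (meetCode (famDec sextetCert.base))
    (fun g hg y _ => meetCode_inv g hg y)
    (by
      show ∀ i j : Fin 3, _ → i = j
      decide +kernel)
    (by
      show ∀ i : Fin 3, _
      decide +kernel)

theorem sextet_transitive {S : Finset (Finset GolayPt)} (hS : S ∈ sextets) :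
    ∃ k : M24, k • famDec sextetCert.base = S :=
  Cert.transitive sextet_ok sextetDeg rfl S hS

theorem sextet_facts {S : Finset (Finset GolayPt)} (hS : S ∈ sextets) :
    (∃ X₁ ∈ sextets, ∃ X₂ ∈ sextets, ∃ X₃ ∈ sextets,
      (orbit (stabilizer M24 S) X₁).ncard = 90 ∧ (orbit (stabilizer M24 S) X₂).ncard = 240 ∧
      (orbit (stabilizer M24 S) X₃).ncard = 1440 ∧
      sextets = {S} ∪ orbit (stabilizer M24 S) X₁ ∪ orbit (stabilizer M24 S) X₂
        ∪ orbit (stabilizer M24 S) X₃ ∧ IsCoatom (stabilizer M24 S)) := by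
  obtain ⟨k, rfl⟩ := sextet_transitive hS
  refine ⟨k • sextetDeg.rep 0, sextetDeg.rep_at_mem k 0, k • sextetDeg.rep 1,
    sextetDeg.rep_at_mem k 1, k • sextetDeg.rep 2, sextetDeg.rep_at_mem k 2, ?_, ?_, ?_, ?_,
    isCoatom_stabilizer_smul k _ (Cert.isCoatom sextet_ok sextetDeg rfl sextet_closed (by decide))⟩
  · exact (sextetDeg.ncard_orbit_at k 0).trans (by decide +kernel : Cert.size sextetCert (0 : Fin 3) = 90)
  · exact (sextetDeg.ncard_orbit_at k 1).trans (by decide +kernel : Cert.size sextetCert (1 : Fin 3) = 240)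
  · exact (sextetDeg.ncard_orbit_at k 2).trans (by decide +kernel : Cert.size sextetCert (2 : Fin 3) = 1440)
  · refine (sextetDeg.eq_cover_at k).trans ?_
    ext y
    simp only [Set.mem_union, Set.mem_singleton_iff, Set.mem_iUnion, Fin.exists_fin_succ, IsEmpty.exists_iff,
      Fin.succ_zero_eq_one, or_false, or_assoc]
    rfl

end CfsgLib.M24Orbits
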