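import Mathlib

/-!
Orbits of a point stabiliser from covering lists, and maximality of the stabiliser.
-/

set_option autoImplicit false

namespace CfsgLib.M24Orbits

open MulAction

variable {G X : Type*} [Group G] [MulAction G X]

/-- Representatives of the orbits of the stabiliser of `a` on `Ω \ {a}`, with lists inside the
orbits covering `Ω \ {a}` and an invariant separating the representatives. -/
structure SubDeg (G : Type*) {X : Type*} [Group G] [MulAction G X] (Ω : Set X) (a : X) (n : ℕ) where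
  κ : Type
  f : X → κ
  rep : Fin n → X
  len : Fin n → ℕ
  elems : Fin n → Finset X
  inv : ∀ g : G, ∀ y ∈ Ω, g • y ∈ Ω
  a_mem : a ∈ Ω
  rep_mem : ∀ i, rep i ∈ Ω
  rep_ne : ∀ i, rep i ≠ a
  elems_le : ∀ i, ∀ y ∈ elems i, y ∈ orbit (stabilizer G a) (rep i)
  card_le : ∀ i, (elems i).card ≤ len i
  cover : ∀ y ∈ Ω, y = a ∨ ∃ i, y ∈ elems i
  total : Ω.ncard = 1 + ∑ i, len i
  finite : Ω.Finite
  f_inv : ∀ g ∈ stabilizer G a, ∀ y ∈ Ω, f (g • y) = f y
  f_inj : Function.Injective fun i => f (rep i)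

namespace SubDeg

variable {Ω : Set X} {a : X} {n : ℕ} (D : SubDeg G Ω a n)

theorem f_orbit {i : Fin n} {y : X} (hy : y ∈ orbit (stabilizer G a) (D.rep i)) :
    y ∈ Ω ∧ y ≠ a ∧ D.f y = D.f (D.rep i) := by
  obtain ⟨h, rfl⟩ := hy
  refine ⟨D.inv h.1 _ (D.rep_mem i), fun e => D.rep_ne i ?_, D.f_inv h.1 h.2 _ (D.rep_mem i)⟩
  have h2 : (h : G) • a = a := h.2
  exact smul_left_cancel (h : G) ((show (h : G) • D.rep i = a from e).trans h2.symm)

theorem orbit_eq_elems (i : Fin n) : orbit (stabilizer G a) (D.rep i) = ↑(D.elems i) := by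
  refine Set.Subset.antisymm (fun y hy => ?_) (fun y hy => D.elems_le i y hy)
  obtain ⟨hyΩ, hya, hf⟩ := D.f_orbit hy
  obtain h | ⟨j, hj⟩ := D.cover y hyΩ
  · exact absurd h hya
  · have := (D.f_orbit (D.elems_le j y hj)).2.2
    rw [D.f_inj (hf.symm.trans this)]
    exact hj

theorem orbit_eq (i : Fin n) :
    orbit (stabilizer G a) (D.rep i) = {y | y ∈ Ω ∧ y ≠ a ∧ D.f y = D.f (D.rep i)} := by
  refine Set.Subset.antisymm (fun y hy => D.f_orbit hy) ?_
  rintro y ⟨hyΩ, hya, hf⟩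
  obtain h | ⟨j, hj⟩ := D.cover y hyΩ
  · exact absurd h hya
  · rw [D.f_inj (hf.symm.trans (D.f_orbit (D.elems_le j y hj)).2.2)]
    exact D.elems_le j y hj

theorem eq_cover : Ω = {a} ∪ ⋃ i, orbit (stabilizer G a) (D.rep i) := by
  ext y
  simp only [Set.mem_union, Set.mem_singleton_iff, Set.mem_iUnion]
  constructor
  · intro hy
    exact (D.cover y hy).imp_right fun ⟨i, hi⟩ => ⟨i, D.elems_le i y hi⟩
  · rintro (rfl | ⟨i, hi⟩)
    · exact D.a_mem
    · exact (D.f_orbit hi).1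

theorem ncard_orbit (i : Fin n) : (orbit (stabilizer G a) (D.rep i)).ncard = D.len i := by
  classical
  rw [D.orbit_eq_elems, Set.ncard_coe_finset]
  have hU : Ω ⊆ ↑(insert a (Finset.univ.biUnion D.elems)) := fun y hy => by
    rcases D.cover y hy with rfl | ⟨j, hj⟩ <;> simp_all
    exact .inr ⟨j, hj⟩
  have h1 := (Set.ncard_le_ncard hU (Finset.finite_toSet _)).trans_eq (Set.ncard_coe_finset _)
  have h2 := Finset.card_insert_le a (Finset.univ.biUnion D.elems)
  have h3 := Finset.card_biUnion_le (s := (Finset.univ : Finset (Fin n))) (t := D.elems)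
  rw [D.total] at h1
  have h5 : ∑ j, D.len j ≤ ∑ j, (D.elems j).card := by omega
  have h6 := Finset.sum_le_sum fun j (_ : j ∈ (Finset.univ : Finset (Fin n))) => D.card_le j
  exact (Finset.sum_eq_sum_iff_of_le fun j _ => D.card_le j).1 (le_antisymm h6 h5) i (Finset.mem_univ i)

/-- The classes met along the way from `a`: one group element per class, and enough steps. -/
def Closed (g : Fin n → G) : Prop :=
  ∀ i, ∀ S : Fin n → Prop, S i →
    (∀ j m y, S j → y ∈ orbit (stabilizer G a) (D.rep j) →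
      g i • y ∈ orbit (stabilizer G a) (D.rep m) → S m) → ∀ m, S m

theorem transitive (g : Fin n → G) (hg : ∀ i, g i • a ∈ orbit (stabilizer G a) (D.rep i)) :
    ∀ y ∈ Ω, ∃ k : G, k • a = y := by
  intro y hy
  rw [D.eq_cover] at hy
  simp only [Set.mem_union, Set.mem_singleton_iff, Set.mem_iUnion] at hy
  rcases hy with rfl | ⟨i, hi⟩
  · exact ⟨1, one_smul _ _⟩
  · rw [← orbit_eq_iff.2 (hg i)] at hi
    obtain ⟨h, rfl⟩ := hi
    exact ⟨(h : G) * g i, mul_smul _ _ _⟩

theorem isCoatom (g : Fin n → G) (hg : ∀ i, g i • a ∈ orbit (stabilizer G a) (D.rep i))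
    (hclosed : D.Closed g) (i₀ : Fin n) : IsCoatom (stabilizer G a) := by
  refine ⟨fun htop => ?_, fun K hK => ?_⟩
  · have : g i₀ ∈ stabilizer G a := by rw [htop]; exact Subgroup.mem_top _
    obtain ⟨-, hne, -⟩ := D.f_orbit (hg i₀)
    exact hne this
  obtain ⟨hle, k, hkK, hk⟩ := SetLike.lt_iff_le_and_exists.1 hK
  obtain ⟨i, hi⟩ : ∃ i, k • a ∈ orbit (stabilizer G a) (D.rep i) := by
    have := D.inv k a D.a_mem
    rw [D.eq_cover] at this
    simp only [Set.mem_union, Set.mem_singleton_iff, Set.mem_iUnion] at this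
    exact this.resolve_left hk
  have hgK : g i ∈ K := by
    rw [← orbit_eq_iff.2 (hg i)] at hi
    obtain ⟨h, he⟩ := hi
    have he' : (h : G) • g i • a = k • a := he
    have h1 : (g i)⁻¹ * ((h : G)⁻¹ * k) ∈ stabilizer G a := by
      rw [mem_stabilizer_iff, mul_smul, mul_smul, ← he', inv_smul_smul, inv_smul_smul]
    have h2 := K.mul_mem (K.inv_mem (hle h.2)) (K.inv_mem (K.mul_mem (hle h1) (K.inv_mem hkK)))
    have e : (h : G)⁻¹ * ((g i)⁻¹ * ((h : G)⁻¹ * k) * k⁻¹)⁻¹ = g i := by group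
    exact e ▸ h2
  have hall : ∀ m, ∃ x ∈ K, x • a ∈ orbit (stabilizer G a) (D.rep m) := by
    refine hclosed i _ ⟨g i, hgK, hg i⟩ ?_
    rintro j m y ⟨x, hxK, hx⟩ hy hgy
    rw [← orbit_eq_iff.2 hx] at hy
    obtain ⟨h, rfl⟩ := hy
    exact ⟨g i * ((h : G) * x), K.mul_mem hgK (K.mul_mem (hle h.2) hxK),
      by rw [mul_smul, mul_smul]; exact hgy⟩
  refine eq_top_iff.2 fun z _ => ?_
  have hz := D.inv z a D.a_mem
  rw [D.eq_cover] at hz
  simp only [Set.mem_union, Set.mem_singleton_iff, Set.mem_iUnion] at hz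
  rcases hz with hz | ⟨m, hm⟩
  · exact hle hz
  · obtain ⟨x, hxK, hx⟩ := hall m
    rw [← orbit_eq_iff.2 hx] at hm
    obtain ⟨h, he⟩ := hm
    have he' : (h : G) • x • a = z • a := he
    have h1 : ((h : G) * x)⁻¹ * z ∈ stabilizer G a := by
      rw [mem_stabilizer_iff, mul_smul, ← he', ← mul_smul (h : G) x, inv_smul_smul]
    have h2 := K.mul_mem (K.mul_mem (hle h.2) hxK) (hle h1)
    rwa [mul_inv_cancel_left] at h2

end SubDeg

/-- Orbit sizes move along a translate. -/
theorem orbit_stabilizer_smul (g : G) (a x : X) :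
    orbit (stabilizer G (g • a)) (g • x) = (fun y => g • y) '' orbit (stabilizer G a) x := by
  ext y
  simp only [Set.mem_image, mem_orbit_iff]
  constructor
  · rintro ⟨h, rfl⟩
    have hh : g⁻¹ * h.1 * g ∈ stabilizer G a := by
      rw [mem_stabilizer_iff, mul_smul, mul_smul, mem_stabilizer_iff.1 h.2, inv_smul_smul]
    exact ⟨_, ⟨⟨_, hh⟩, rfl⟩, by
      show g • (g⁻¹ * h.1 * g) • x = h.1 • g • x
      simp [mul_smul]⟩
  · rintro ⟨_, ⟨h, rfl⟩, rfl⟩
    have hh : g * h.1 * g⁻¹ ∈ stabilizer G (g • a) := by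
      rw [mem_stabilizer_iff, mul_smul, mul_smul, inv_smul_smul, mem_stabilizer_iff.1 h.2]
    exact ⟨⟨_, hh⟩, by
      show (g * h.1 * g⁻¹) • g • x = g • h.1 • x
      simp [mul_smul]⟩

theorem ncard_orbit_stabilizer_smul (g : G) (a x : X) :
    (orbit (stabilizer G (g • a)) (g • x)).ncard = (orbit (stabilizer G a) x).ncard := by
  rw [orbit_stabilizer_smul, Set.ncard_image_of_injective _ (MulAction.injective g)]

theorem isCoatom_stabilizer_smul (g : G) (a : X) (h : IsCoatom (stabilizer G a)) :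
    IsCoatom (stabilizer G (g • a)) := by
  rw [stabilizer_smul_eq_stabilizer_map_conj]
  exact ((MulEquiv.mapSubgroup (MulAut.conj g)).isCoatom_iff _).2 h

end CfsgLib.M24Orbits
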