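import Cfsg.Agent.Lib.M24Orbits.Forest
import Cfsg.Agent.Lib.M24Orbits.OrbitTools

/-!
One kernel check for the suborbits of the group of the code at an object `a`: forests over the
representatives, a covering table, and elements moving `a` into each class.
-/

set_option autoImplicit false

namespace CfsgLib.M24Orbits

open Cfsg CfsgLib.Comp MulAction
open scoped Pointwise

/-- The data of a certificate. -/
structure Cert (α : Type) where
  base : α
  gens : List ℕ
  classes : List (α × List (List (α × ℕ × ℕ)))
  pos : List (ℕ × ℕ × ℕ)
  movers : List (ℕ × (ℕ × ℕ) × List (ℕ × (ℕ × ℕ) × ℕ × ℕ × ℕ))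

/-- Add the classes reached by the steps, provided each step checks. -/
noncomputable def chase {α X : Type} [MulAction (Equiv.Perm GolayPt) X] (C : Coding α X)
    (objs : List (List (List α))) (g : ℕ) : List ℕ → List (ℕ × (ℕ × ℕ) × ℕ × ℕ × ℕ) → List ℕ
  | known, [] => known
  | known, (j, q, m, q') :: rest =>
    bif known.any (Nat.beq j) && (match entry objs (j + 1, q), entry objs (m + 1, q') with
        | some y, some z => C.eqb (C.img g y) z
        | _, _ => false)
      then chase C objs g (m :: known) rest else known

namespace Cert

variable {α β X : Type} [MulAction (Equiv.Perm GolayPt) X] (c : Cert α) (C : Coding α X)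

/-- All objects, class by class, with the base object as class `0`. -/
def objs : List (List (List α)) := [[c.base]] :: c.classes.map fun e => objLevels e.1 e.2

/-- The sizes of the classes. -/
def sizes : List ℕ := c.classes.map fun e => ((objLevels e.1 e.2).map List.length).sum

/-- The check of the `i`-th mover. -/
noncomputable def moverOk (i : ℕ) : Bool :=
  match c.movers[i]? with
  | none => false
  | some (g, q, steps) => okM24 g &&
      (match entry c.objs (i + 1, q) with
        | some r => C.eqb (C.img g c.base) r
        | none => false)

/-- The check that the `i`-th mover reaches every class. -/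
noncomputable def closeOk (i : ℕ) : Bool :=
  match c.movers[i]? with
  | none => false
  | some (g, _, steps) =>
      (List.range c.classes.length).all fun m => (chase C c.objs g [i] steps).any (Nat.beq m)

/-- The check that every mover reaches every class. -/
noncomputable def closed : Bool := (List.range c.classes.length).all fun i => c.closeOk C i

/-- The whole check. -/
noncomputable def ok (rel : β → α → Bool) (reps : List β) : Bool :=
  gensOk C c.gens c.base &&
    (c.classes.all fun e => forestOk C c.gens [e.1] e.2) &&
    coverOk rel c.objs reps c.pos &&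
    (List.range c.classes.length).all fun i => c.moverOk C i

/-- The representative of a class. -/
def repObj (i : Fin c.classes.length) : α := (c.classes[i.1]'i.2).1

/-- The representative of a class, decoded. -/
def rep (i : Fin c.classes.length) : X := C.dec (c.repObj i)

/-- The number of listed objects in a class. -/
def size (i : Fin c.classes.length) : ℕ :=
  ((objLevels (c.classes[i.1]'i.2).1 (c.classes[i.1]'i.2).2).map List.length).sum

variable [DecidableEq X]

/-- The decoded objects of a class. -/
def elems (i : Fin c.classes.length) : Finset X :=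
  ((objLevels (c.classes[i.1]'i.2).1 (c.classes[i.1]'i.2).2).flatten.map C.dec).toFinset

variable {c C} {rel : β → α → Bool} {reps : List β}

theorem elems_le (h : c.ok C rel reps = true) (i : Fin c.classes.length) {y : X}
    (hy : y ∈ c.elems C i) : y ∈ orbit (stabilizer M24 (C.dec c.base)) (c.rep C i) := by
  simp only [ok, Bool.and_eq_true, List.all_eq_true] at h
  simp only [elems, List.mem_toFinset, List.mem_map] at hy
  obtain ⟨r, hr, rfl⟩ := hy
  exact objLevels_mem h.1.1.1 (h.1.1.2 _ (List.getElem_mem i.2)) r hr

theorem entry_mem {i : ℕ} {q : ℕ × ℕ} {r : α} (hi : i < c.classes.length)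
    (h : entry c.objs (i + 1, q) = some r) : C.dec r ∈ c.elems C ⟨i, hi⟩ := by
  obtain ⟨q₁, q₂⟩ := q
  unfold entry at h
  simp only [objs, List.getElem?_cons_succ, List.getElem?_map, List.getElem?_eq_getElem hi,
    Option.map_some, Option.getD_some] at h
  cases hm : (objLevels (c.classes[i]).1 (c.classes[i]).2)[q₁]? with
  | none => simp [hm] at h
  | some m =>
    simp only [hm, Option.getD_some] at h
    simp only [elems, List.mem_toFinset, List.mem_map]
    exact ⟨r, List.mem_flatten.2 ⟨m, List.mem_of_getElem? hm, List.mem_of_getElem? h⟩, rfl⟩

theorem entry_lt {i : ℕ} {q : ℕ × ℕ} {r : α} (h : entry c.objs (i + 1, q) = some r) :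
    i < c.classes.length := by
  by_contra hn
  obtain ⟨q₁, q₂⟩ := q
  unfold entry at h
  simp [objs, List.getElem?_eq_none (not_lt.1 hn)] at h

/-- The suborbit structure read off from a successful check. -/
noncomputable def subDeg (h : c.ok C rel reps = true) {Ω : Set X} (hinv : ∀ g : M24, ∀ y ∈ Ω, g • y ∈ Ω)
    (ha : C.dec c.base ∈ Ω) (hrep : ∀ i, c.rep C i ∈ Ω) (hne : ∀ i, c.rep C i ≠ C.dec c.base)
    (hcov : ∀ y ∈ Ω, ∃ b ∈ reps, ∀ r, rel b r = true → C.dec r ∈ Ω → C.dec r = y)
    (hΩ : Ω.Finite) (htotal : Ω.ncard = 1 + c.sizes.sum)
    {κ : Type} (f : X → κ) (hf : ∀ g ∈ stabilizer M24 (C.dec c.base), ∀ y ∈ Ω, f (g • y) = f y)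
    (hinj : Function.Injective fun i => f (c.rep C i)) :
    SubDeg M24 Ω (C.dec c.base) c.classes.length where
  κ := κ
  f := f
  rep := c.rep C
  len := c.size
  elems := c.elems C
  inv := hinv
  a_mem := ha
  rep_mem := hrep
  rep_ne := hne
  elems_le i _ hy := elems_le h i hy
  card_le i := by
    refine (List.toFinset_card_le _).trans_eq ?_
    rw [List.length_map, List.length_flatten, size]
  cover y hy := by
    obtain ⟨b, hb, hby⟩ := hcov y hy
    have h' := h
    simp only [ok, Bool.and_eq_true] at h'
    obtain ⟨i, l, r, hl, hr, hbr⟩ := coverOk_sound h'.1.2 b hb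
    cases i with
    | zero =>
      simp only [objs, List.getElem?_cons_zero, Option.some.injEq] at hl
      subst hl
      simp only [List.flatten_cons, List.flatten_nil, List.append_nil, List.mem_singleton] at hr
      subst hr
      exact .inl (hby _ hbr ha).symm
    | succ i =>
      simp only [objs, List.getElem?_cons_succ, List.getElem?_map, Option.map_eq_some_iff] at hl
      obtain ⟨e, he, rfl⟩ := hl
      obtain ⟨hi, rfl⟩ := List.getElem?_eq_some_iff.1 he
      have hmem : C.dec r ∈ c.elems C ⟨i, hi⟩ := by
        simp only [elems, List.mem_toFinset, List.mem_map]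
        exact ⟨r, hr, rfl⟩
      obtain ⟨g, hg⟩ := elems_le h ⟨i, hi⟩ hmem
      have hΩr : C.dec r ∈ Ω := hg ▸ hinv g.1 _ (hrep _)
      exact .inr ⟨⟨i, hi⟩, hby r hbr hΩr ▸ hmem⟩
  total := by
    rw [htotal, sizes, ← List.sum_ofFn]
    congr 2
    exact List.ext_getElem (by simp) fun k h1 h2 => by simp [size]
  finite := hΩ
  f_inv := hf
  f_inj := hinj

/-- The `i`-th mover. -/
noncomputable def mover (h : c.ok C rel reps = true) (i : Fin c.classes.length) : M24 :=
  if hg : okM24 ((c.movers[i.1]?.getD (0, (0, 0), [])).1) = true then elt _ hg else 1

theorem mover_spec (h : c.ok C rel reps = true) (i : Fin c.classes.length) :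
    mover h i • C.dec c.base ∈ orbit (stabilizer M24 (C.dec c.base)) (c.rep C i) ∧
      (c.closed C = true → ∀ S : Fin c.classes.length → Prop, S i →
        (∀ j m y, S j → y ∈ orbit (stabilizer M24 (C.dec c.base)) (c.rep C j) →
          mover h i • y ∈ orbit (stabilizer M24 (C.dec c.base)) (c.rep C m) → S m) → ∀ m, S m) := by
  have h' := h
  simp only [ok, Bool.and_eq_true, List.all_eq_true] at h'
  have hm := h'.2 i.1 (List.mem_range.2 i.2)
  unfold moverOk at hm
  cases hmv : c.movers[i.1]? with
  | none => simp [hmv] at hm
  | some t =>
    obtain ⟨g, q, steps⟩ := t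
    simp only [hmv, Bool.and_eq_true] at hm
    obtain ⟨hok, hfirst⟩ := hm
    have hmove : mover h i = elt g hok := by
      unfold mover
      rw [dif_pos (by simp [hmv, hok])]
      congr 1
      simp [hmv]
    rw [hmove]
    cases he : entry c.objs (i.1 + 1, q) with
    | none => simp [he] at hfirst
    | some r =>
      simp only [he] at hfirst
      refine ⟨?_, fun hc => ?_⟩
      · show perm g • C.dec c.base ∈ _
        rw [← C.dec_img g (okM24_ok hok), C.eqb_sound _ _ hfirst]
        exact elems_le h i (entry_mem i.2 he)
      · intro S hS hstep m
        simp only [closed, List.all_eq_true] at hc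
        have hall := hc i.1 (List.mem_range.2 i.2)
        simp only [closeOk, hmv, List.all_eq_true] at hall
        have inv : ∀ (st : List (ℕ × (ℕ × ℕ) × ℕ × ℕ × ℕ)) (known : List ℕ),
            (∀ k ∈ known, ∀ hk : k < c.classes.length, S ⟨k, hk⟩) →
            ∀ k ∈ chase C c.objs g known st, ∀ hk : k < c.classes.length, S ⟨k, hk⟩ := by
          intro st
          induction st with
          | nil => exact fun known hk => hk
          | cons e rest ih =>
            obtain ⟨j, q₁, m', q₂⟩ := e
            intro known hknown
            simp only [chase]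
            cases hc : (known.any (Nat.beq j) && (match entry c.objs (j + 1, q₁), entry c.objs (m' + 1, q₂) with
                | some y, some z => C.eqb (C.img g y) z
                | _, _ => false)) with
            | false => exact hknown
            | true =>
              refine ih _ ?_
              intro k hk hlt
              rcases List.mem_cons.1 hk with rfl | hk
              · simp only [Bool.and_eq_true] at hc
                obtain ⟨x, hx, hxe⟩ := List.any_eq_true.1 hc.1
                obtain rfl := Nat.eq_of_beq_eq_true hxe
                cases h1 : entry c.objs (j + 1, q₁) with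
                | none => simp [h1] at hc
                | some y =>
                  cases h2 : entry c.objs (k + 1, q₂) with
                  | none => simp [h1, h2] at hc
                  | some z =>
                    simp only [h1, h2] at hc
                    have hj := entry_lt h1
                    refine hstep ⟨j, hj⟩ ⟨k, hlt⟩ (C.dec y) (hknown j hx hj)
                      (elems_le h _ (entry_mem hj h1)) ?_
                    show perm g • C.dec y ∈ _
                    rw [← C.dec_img g (okM24_ok hok), C.eqb_sound _ _ hc.2]
                    exact elems_le h _ (entry_mem hlt h2)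
              · exact hknown k hk hlt
        have hmm := hall m.1 (List.mem_range.2 m.2)
        obtain ⟨k, hk, hke⟩ := List.any_eq_true.1 hmm
        obtain rfl := Nat.eq_of_beq_eq_true hke
        refine inv steps [i.1] ?_ m.1 hk m.2
        intro k' hk' _
        obtain rfl := List.mem_singleton.1 hk'
        exact hS

theorem transitive (h : c.ok C rel reps = true) {Ω : Set X}
    (D : SubDeg M24 Ω (C.dec c.base) c.classes.length) (hD : D.rep = c.rep C) :
    ∀ y ∈ Ω, ∃ k : M24, k • C.dec c.base = y := by
  exact D.transitive (mover h) (by rw [hD]; exact fun i => (mover_spec h i).1)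

theorem isCoatom (h : c.ok C rel reps = true) {Ω : Set X}
    (D : SubDeg M24 Ω (C.dec c.base) c.classes.length) (hD : D.rep = c.rep C)
    (hclosed : c.closed C = true) (hn : 0 < c.classes.length) : IsCoatom (stabilizer M24 (C.dec c.base)) := by
  refine D.isCoatom (mover h) (by rw [hD]; exact fun i => (mover_spec h i).1) ?_ ⟨0, hn⟩
  unfold SubDeg.Closed
  rw [hD]
  exact fun i => (mover_spec h i).2 hclosed

end Cert

end CfsgLib.M24Orbits
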