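import Cfsg.Agent.Lib.M24Orbits.DodecadCheck
import Cfsg.Agent.Lib.M24Orbits.Suborbits

/-! The group of the code on dodecads. -/

set_option autoImplicit false

namespace CfsgLib.M24Orbits

open Cfsg MulAction
open scoped Pointwise

/-- The mask of a dodecad. -/
def isDod (n : ℕ) : Bool := Nat.blt n 16777216 && Golay.memb n && Nat.beq (Golay.pc24 n) 12

theorem mem_dodecads_of_isDod {n : ℕ} (h : isDod n = true) : Golay.toSet n ∈ dodecads := by
  simp only [isDod, Bool.and_eq_true, Nat.blt_eq, Nat.beq_eq, Golay.pc24_eq] at h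
  exact ⟨(Golay.toSet_mem_supports h.1.1).2 h.1.2, by rw [Golay.card_toSet]; exact h.2⟩

/-- The suborbits on dodecads. -/
noncomputable def dodecadDeg : SubDeg M24 dodecads (Golay.toSet dodecadCert.base) 4 :=
  Cert.subDeg' dodecad_ok (fun g _ hy => smul_mem_dodecads g hy)
    (mem_dodecads_of_isDod (by decide +kernel))
    (fun y hy => by
      obtain ⟨b, hb, e⟩ := exists_dodecadList hy
      exact ⟨b, hb, fun r hr _ => by rw [← Nat.eq_of_beq_eq_true hr]; exact e⟩)
    (Set.toFinite _)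
    (by rw [Golay.ncard_dodecads]; decide +kernel)
    (fun y => (Golay.toSet dodecadCert.base ∩ y).card)
    (fun g hg y _ => inter_inv g hg y)
    (by
      show ∀ i j : Fin 4, _ → i = j
      decide +kernel)
    (by
      show ∀ i : Fin 4, _
      decide +kernel)

theorem dodecad_transitive {d : Finset GolayPt} (hd : d ∈ dodecads) :
    ∃ k : M24, k • Golay.toSet dodecadCert.base = d :=
  Cert.transitive dodecad_ok dodecadDeg rfl d hd

theorem dodecad_inter_pull (k : M24) (x : Finset GolayPt) :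
    (Golay.toSet dodecadCert.base ∩ k⁻¹ • x).card = (k • Golay.toSet dodecadCert.base ∩ x).card := by
  conv_rhs => rw [← smul_inv_smul k x]
  show _ = ((k : Equiv.Perm GolayPt) • Golay.toSet dodecadCert.base ∩ (k : Equiv.Perm GolayPt) • (k⁻¹ • x)).card
  rw [← Finset.smul_finset_inter, Finset.card_smul_finset]

theorem dodecad_eq_of_inter {d e : Finset GolayPt} (hd : d ∈ dodecads) (he : e ∈ dodecads)
    (h : (d ∩ e).card = 12) : d = e := by
  have h1 := Finset.eq_of_subset_of_card_le (Finset.inter_subset_left : d ∩ e ⊆ d) (by rw [h, hd.2])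
  exact Finset.eq_of_subset_of_card_le (h1 ▸ Finset.inter_subset_right) (by rw [he.2, hd.2])

theorem dodecad_same_orbit {d d' d'' : Finset GolayPt} (hd : d ∈ dodecads) (hd' : d' ∈ dodecads)
    (hd'' : d'' ∈ dodecads) (h : (d ∩ d').card = (d ∩ d'').card) :
    ∃ g : Equiv.Perm GolayPt, g ∈ M24 ∧ g • d = d ∧ g • d' = d'' := by
  by_cases e : d' = d
  · subst e
    rw [Finset.inter_self] at h
    exact ⟨1, one_mem _, one_smul _ _, by rw [one_smul, dodecad_eq_of_inter hd hd'' (h.symm.trans hd.2)]⟩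
  have e'' : d'' ≠ d := by
    rintro rfl
    rw [Finset.inter_self] at h
    exact e (dodecad_eq_of_inter hd hd' (h.trans hd.2)).symm
  obtain ⟨k, rfl⟩ := dodecad_transitive hd
  obtain ⟨s, hsa, hs⟩ := dodecadDeg.same_class (dodecadDeg.inv k⁻¹ _ hd') (dodecadDeg.inv k⁻¹ _ hd'')
    (fun x => e (by rw [← x, smul_inv_smul])) (fun x => e'' (by rw [← x, smul_inv_smul]))
    (by
      show (Golay.toSet dodecadCert.base ∩ k⁻¹ • d').card = (Golay.toSet dodecadCert.base ∩ k⁻¹ • d'').card
      rw [dodecad_inter_pull, dodecad_inter_pull]; exact h)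
  refine ⟨(k * s * k⁻¹ : M24), SetLike.coe_mem _, ?_, ?_⟩
  · show (k * s * k⁻¹ : M24) • k • Golay.toSet dodecadCert.base = k • Golay.toSet dodecadCert.base
    rw [mul_smul, mul_smul, inv_smul_smul, hsa]
  · show (k * s * k⁻¹ : M24) • d' = d''
    rw [mul_smul, mul_smul, hs, smul_inv_smul]

theorem dodecad_meet_count {d : Finset GolayPt} (hd : d ∈ dodecads) (m : ℕ) (i : Fin 4)
    (hm : (Golay.toSet dodecadCert.base ∩ dodecadDeg.rep i).card = m) (h12 : m ≠ 12) :
    {d' : Finset GolayPt | d' ∈ dodecads ∧ (d ∩ d').card = m}.ncard = dodecadDeg.len i := by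
  obtain ⟨k, rfl⟩ := dodecad_transitive hd
  rw [← dodecadDeg.ncard_class i]
  refine (congrArg Set.ncard ?_).trans (Set.ncard_image_of_injective _ (MulAction.injective k))
  ext y
  simp only [Set.mem_image, Set.mem_ofPred_eq]
  constructor
  · rintro ⟨hy, hc⟩
    rw [← dodecad_inter_pull] at hc
    refine ⟨k⁻¹ • y, ⟨dodecadDeg.inv k⁻¹ y hy, fun e => h12 ?_, hc.trans hm.symm⟩, smul_inv_smul _ _⟩
    rw [← hc, e, Finset.inter_self]
    exact dodecadDeg.a_mem.2
  · rintro ⟨y, ⟨hy, -, hf⟩, rfl⟩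
    refine ⟨dodecadDeg.inv k y hy, ?_⟩
    rw [← dodecad_inter_pull, inv_smul_smul]
    exact hf.trans hm

theorem dodecad_meet_cases {d d' : Finset GolayPt} (hd : d ∈ dodecads) (hd' : d' ∈ dodecads)
    (hne : d' ≠ d) :
    (d ∩ d').card = 0 ∨ (d ∩ d').card = 4 ∨ (d ∩ d').card = 6 ∨ (d ∩ d').card = 8 := by
  obtain ⟨k, rfl⟩ := dodecad_transitive hd
  obtain ⟨i, hi⟩ := dodecadDeg.exists_class (dodecadDeg.inv k⁻¹ _ hd')
    (fun x => hne (by rw [← x, smul_inv_smul]))
  have hf : (Golay.toSet dodecadCert.base ∩ k⁻¹ • d').card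
      = (Golay.toSet dodecadCert.base ∩ Cert.rep dodecadCert setCoding i).card :=
    (dodecadDeg.f_orbit hi).2.2
  rw [dodecad_inter_pull] at hf
  have key : ∀ j : Fin 4,
      (Golay.toSet dodecadCert.base ∩ Cert.rep dodecadCert setCoding j).card = 0 ∨
      (Golay.toSet dodecadCert.base ∩ Cert.rep dodecadCert setCoding j).card = 4 ∨
      (Golay.toSet dodecadCert.base ∩ Cert.rep dodecadCert setCoding j).card = 6 ∨
      (Golay.toSet dodecadCert.base ∩ Cert.rep dodecadCert setCoding j).card = 8 := by decide +kernel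
  rw [hf]
  exact key i

end CfsgLib.M24Orbits
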