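import Cfsg.Agent.Lib.M24Orbits.DodecadPairCheck
import Cfsg.Agent.Lib.M24Orbits.Dodecad

/-! The group of the code on pairs of complementary dodecads. -/

set_option autoImplicit false

namespace CfsgLib.M24Orbits

open Cfsg MulAction
open scoped Pointwise

/-- The pairs of complementary dodecads. -/
def dodecadPairs : Set (Finset (Finset GolayPt)) :=
  {P | ∃ d ∈ dodecads, P = {d, dᶜ}}

theorem compl_mem_dodecads {d : Finset GolayPt} (hd : d ∈ dodecads) : dᶜ ∈ dodecads :=
  ⟨GolayDesign.compl_mem_supports hd.1, by rw [Finset.card_compl, hd.2]; simp⟩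

theorem pair_eq_of_mem {P : Finset (Finset GolayPt)} (hP : P ∈ dodecadPairs) {d : Finset GolayPt}
    (hd : d ∈ P) : P = {d, dᶜ} := by
  obtain ⟨e, -, rfl⟩ := hP
  rcases Finset.mem_insert.1 hd with rfl | h
  · rfl
  · rw [Finset.mem_singleton.1 h, compl_compl, Finset.pair_comm]

theorem exists_top {P : Finset (Finset GolayPt)} (hP : P ∈ dodecadPairs) :
    ∃ d ∈ P, d ∈ dodecads ∧ none ∈ d := by
  obtain ⟨d, hd, rfl⟩ := hP
  by_cases h : none ∈ d
  · exact ⟨d, by simp, hd, h⟩
  · exact ⟨dᶜ, by simp, compl_mem_dodecads hd, Finset.mem_compl.2 h⟩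

theorem smul_mem_dodecadPairs (g : M24) {P : Finset (Finset GolayPt)} (hP : P ∈ dodecadPairs) :
    g • P ∈ dodecadPairs := by
  obtain ⟨d, hd, rfl⟩ := hP
  refine ⟨g • d, smul_mem_dodecads g hd, ?_⟩
  show (g : Equiv.Perm GolayPt) • ({d, dᶜ} : Finset (Finset GolayPt))
    = {(g : Equiv.Perm GolayPt) • d, ((g : Equiv.Perm GolayPt) • d)ᶜ}
  rw [Finset.smul_finset_insert, Finset.smul_finset_singleton]
  congr 2
  ext p
  simp [Finset.mem_compl, ← Finset.inv_smul_mem_iff]

theorem ncard_dodecadPairs : dodecadPairs.ncard = 1288 := by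
  classical
  have hcount : {d | d ∈ dodecads ∧ none ∈ d}.ncard = 1288 := by
    refine (Golay.ncard_filter_weight 12 (fun n => Nat.testBit n 23) (fun s => none ∈ s) ?_).trans
      (by decide +kernel)
    intro n _
    rw [Golay.mem_toSet]
    rfl
  rw [← hcount]
  refine (Set.ncard_congr (fun d _ => ({d, dᶜ} : Finset (Finset GolayPt))) ?_ ?_ ?_).symm
  · exact fun d hd => ⟨d, hd.1, rfl⟩
  · intro d e hd he h
    have : d ∈ ({e, eᶜ} : Finset (Finset GolayPt)) := by rw [← h]; simp
    rcases Finset.mem_insert.1 this with h' | h'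
    · exact h'
    · rw [Finset.mem_singleton] at h'
      exact absurd he.2 (by rw [← Finset.mem_compl, ← h']; exact hd.2)
  · intro P hP
    obtain ⟨d, hdP, hd, hn⟩ := exists_top hP
    exact ⟨d, ⟨hd, hn⟩, (pair_eq_of_mem hP hdP).symm⟩

theorem dpairBase_mem : famDec dpairCert.base ∈ dodecadPairs :=
  ⟨Golay.toSet (dpairCert.base.getD 0 0), mem_dodecads_of_isDod (by decide +kernel), by decide +kernel⟩

/-- The suborbits on pairs of complementary dodecads. -/
noncomputable def dpairDeg : SubDeg M24 dodecadPairs (famDec dpairCert.base) 2 :=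
  Cert.subDeg' dpair_ok (fun g _ hy => smul_mem_dodecadPairs g hy) dpairBase_mem
    (fun y hy => by
      obtain ⟨d, hdy, hd, hn⟩ := exists_top hy
      obtain ⟨b, hb, rfl⟩ := exists_dodecadList hd
      refine ⟨b, List.mem_filter.2 ⟨hb, Golay.mem_toSet.1 hn⟩, fun r hr hrΩ => ?_⟩
      rw [pair_eq_of_mem hy hdy]
      exact pair_eq_of_mem hrΩ (mem_of_hasMask hr))
    (Set.toFinite _)
    (by rw [ncard_dodecadPairs]; decide +kernel)
    (meetCode (famDec dpairCert.base))
    (fun g hg y _ => meetCode_inv g hg y)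
    (by
      show ∀ i j : Fin 2, _ → i = j
      decide +kernel)
    (by
      show ∀ i : Fin 2, _
      decide +kernel)

theorem dodecad_pair_maximal {d : Finset GolayPt} (hd : d ∈ dodecads) :
    IsCoatom (stabilizer M24 ({d, dᶜ} : Finset (Finset GolayPt))) := by
  obtain ⟨k, hk⟩ := Cert.transitive dpair_ok dpairDeg rfl _ ⟨d, hd, rfl⟩
  rw [← hk]
  exact isCoatom_stabilizer_smul k _ (Cert.isCoatom dpair_ok dpairDeg rfl dpair_closed (by decide))

end CfsgLib.M24Orbits
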