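import Cfsg.Agent.Lib.M24Orbits.DuadCheck
import Cfsg.Agent.Lib.M24Orbits.Suborbits

/-! The group of the code on pairs of points. -/

set_option autoImplicit false

namespace CfsgLib.M24Orbits

open Cfsg MulAction
open scoped Pointwise

theorem exists_bit_pair {p q : GolayPt} (h : p ≠ q) :
    ∃ i j, i < j ∧ j < 24 ∧ ({p, q} : Finset GolayPt) = Golay.toSet (2 ^ i ||| 2 ^ j) := by
  rcases lt_trichotomy (Golay.bit p) (Golay.bit q) with hl | hl | hl
  · exact ⟨_, _, hl, Golay.bit_lt q, by
      rw [Golay.toSet_or, toSet_two_pow (Golay.bit_lt p), toSet_two_pow (Golay.bit_lt q),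
        Golay.pt_bit, Golay.pt_bit]; rfl⟩
  · exact absurd (Golay.bit_injective hl) h
  · exact ⟨_, _, hl, Golay.bit_lt p, by
      rw [Golay.toSet_or, toSet_two_pow (Golay.bit_lt p), toSet_two_pow (Golay.bit_lt q),
        Golay.pt_bit, Golay.pt_bit]
      ext x; simp [or_comm]⟩

/-- The suborbits on pairs of points. -/
noncomputable def duadDeg :
    SubDeg M24 {s : Finset GolayPt | s.card = 2} (Golay.toSet duadCert.base) 2 :=
  Cert.subDeg' duad_ok
    (fun g y hy => by
      show ((g : Equiv.Perm GolayPt) • y).card = 2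
      rw [Finset.card_smul_finset]; exact hy)
    (show (Golay.toSet duadCert.base).card = 2 by decide +kernel)
    (fun y hy => by
      obtain ⟨p, q, hne, rfl⟩ := Finset.card_eq_two.1 (show y.card = 2 from hy)
      obtain ⟨i, j, hij, hj, e⟩ := exists_bit_pair hne
      refine ⟨2 ^ i ||| 2 ^ j, List.mem_flatMap.2 ⟨j, List.mem_range.2 hj,
        List.mem_map.2 ⟨i, List.mem_range.2 hij, rfl⟩⟩, fun r hr _ => ?_⟩
      rw [← Nat.eq_of_beq_eq_true hr, e]; rfl)
    (Set.toFinite _)
    (by
      rw [show {s : Finset GolayPt | s.card = 2} = ↑((Finset.univ : Finset GolayPt).powersetCard 2) by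
        ext s; simp, Set.ncard_coe_finset, Finset.card_powersetCard, GolayDesign.card_univ_pt]
      decide +kernel)
    (fun y => (Golay.toSet duadCert.base ∩ y).card)
    (fun g hg y _ => inter_inv g hg y)
    (by
      show ∀ i j : Fin 2, _ → i = j
      decide +kernel)
    (by
      show ∀ i : Fin 2, _
      decide +kernel)

theorem duad_maximal {s : Finset GolayPt} (hs : s.card = 2) : IsCoatom (stabilizer M24 s) := by
  obtain ⟨k, rfl⟩ := Cert.transitive duad_ok duadDeg rfl s hs
  exact isCoatom_stabilizer_smul k _ (Cert.isCoatom duad_ok duadDeg rfl duad_closed (by decide))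

end CfsgLib.M24Orbits
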