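import Cfsg.Agent.Lib.M24Orbits.Cert

/-! Certificate data (machine written) for suborbits of the group of the code: duad. -/

set_option autoImplicit false

namespace CfsgLib.M24Orbits

def duadL0_0_0 : List (ℕ × ℕ × ℕ) := [(65537, 0, 0), (514, 1, 0)]
def duadL0_0 : List (ℕ × ℕ × ℕ) := duadL0_0_0
def duadL0_1_0 : List (ℕ × ℕ × ℕ) := [(18, 0, 0), (1025, 1, 0), (1048577, 0, 1), (4098, 1, 1)]
def duadL0_1 : List (ℕ × ℕ × ℕ) := duadL0_1_0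
def duadL0_2_0 : List (ℕ × ℕ × ℕ) := [(9, 0, 0), (32770, 1, 0), (8388610, 0, 1), (257, 1, 1), (258, 0, 2), (262145, 0, 3), (262146, 1, 3)]
def duadL0_2 : List (ℕ × ℕ × ℕ) := duadL0_2_0
def duadL0_3_0 : List (ℕ × ℕ × ℕ) := [(130, 0, 0), (65, 1, 0), (131073, 0, 1), (34, 1, 1), (2097153, 0, 2), (1048578, 1, 2), (524290, 0, 3), (16385, 1, 3), (524289, 0, 4), (16386, 1, 4), (4194306, 0, 5), (2049, 1, 5), (4194305, 0, 6), (2050, 1, 6)]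
def duadL0_3 : List (ℕ × ℕ × ℕ) := duadL0_3_0
def duadL0_4_0 : List (ℕ × ℕ × ℕ) := [(513, 0, 0), (2097154, 1, 0), (17, 1, 1), (8194, 0, 2), (10, 1, 5), (8193, 1, 7), (129, 1, 8), (32769, 0, 9), (33, 0, 10), (8388609, 1, 12), (131074, 1, 13)]
def duadL0_4 : List (ℕ × ℕ × ℕ) := duadL0_4_0
def duadL0_5_0 : List (ℕ × ℕ × ℕ) := [(4097, 1, 0), (66, 1, 4), (5, 1, 5), (1026, 0, 8), (65538, 1, 10)]
def duadL0_5 : List (ℕ × ℕ × ℕ) := duadL0_5_0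
def duadL1_0_0 : List (ℕ × ℕ × ℕ) := [(2097184, 0, 0), (9437184, 1, 0)]
def duadL1_0 : List (ℕ × ℕ × ℕ) := duadL1_0_0
def duadL1_1_0 : List (ℕ × ℕ × ℕ) := [(5120, 0, 0), (4718592, 1, 0), (2097408, 0, 1), (1048584, 1, 1)]
def duadL1_1 : List (ℕ × ℕ × ℕ) := duadL1_1_0
def duadL1_2_0 : List (ℕ × ℕ × ℕ) := [(8650752, 0, 0), (262400, 1, 0), (16416, 0, 1), (8388736, 1, 1), (528384, 0, 2), (4210688, 1, 2), (384, 0, 3), (72, 1, 3)]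
def duadL1_2 : List (ℕ × ℕ × ℕ) := duadL1_2_0
def duadL1_3_0 : List (ℕ × ℕ × ℕ) := [(6291456, 0, 0), (1050624, 1, 0), (18432, 1, 1), (33792, 0, 2), (532480, 1, 2), (2097664, 0, 3), (3145728, 1, 3), (278528, 0, 4), (262272, 1, 4), (32800, 0, 5), (8396800, 1, 5), (524800, 0, 6), (2113536, 1, 6), (132, 0, 7), (80, 1, 7)]
def duadL1_3 : List (ℕ × ℕ × ℕ) := duadL1_3_0
def duadL1_4_0 : List (ℕ × ℕ × ℕ) := [(4128, 0, 0), (2304, 0, 1), (131080, 1, 1), (34816, 0, 2), (139264, 1, 2), (8519680, 0, 3), (288, 1, 3), (16448, 0, 4), (1052672, 0, 5), (4198400, 1, 5), (4352, 0, 6), (4194312, 1, 6), (4227072, 0, 7), (10240, 1, 7), (4194816, 0, 8), (2099200, 1, 8), (132096, 0, 9), (524320, 1, 9), (2097216, 0, 10), (1048580, 1, 10), (1064960, 0, 11), (4224, 1, 11), (36864, 0, 12), (4202496, 1, 12), (66048, 0, 13), (12, 0, 14), (32784, 1, 14)]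
def duadL1_4 : List (ℕ × ℕ × ℕ) := duadL1_4_0
def duadL1_5_0 : List (ℕ × ℕ × ℕ) := [(263168, 0, 0), (786432, 1, 0), (526336, 0, 1), (147456, 1, 1), (8320, 0, 2), (65600, 1, 2), (133120, 0, 3), (131104, 1, 3), (8256, 0, 4), (65540, 1, 4), (2105344, 0, 5), (1114112, 1, 5), (525312, 0, 6), (540672, 1, 6), (32772, 0, 7), (8208, 1, 7), (262152, 1, 8), (262176, 0, 9), (160, 0, 11), (8388672, 1, 11), (8388640, 1, 12), (2112, 0, 13), (131076, 1, 13), (1048608, 0, 14), (8392704, 1, 14), (6144, 0, 15), (4325376, 1, 15), (65792, 1, 16), (17408, 0, 17), (524416, 1, 17), (4100, 0, 18), (4194320, 1, 18), (520, 1, 19), (33024, 0, 20), (8200, 1, 20), (262656, 0, 21), (2359296, 1, 21), (393216, 0, 22), (96, 0, 23), (8388612, 1, 23), (1048592, 0, 24), (65664, 0, 25), (576, 1, 25)]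
def duadL1_5 : List (ℕ × ℕ × ℕ) := duadL1_5_0
def duadL1_6_0 : List (ℕ × ℕ × ℕ) := [(2176, 1, 1), (131200, 1, 2), (40960, 0, 3), (73728, 1, 3), (2097156, 1, 4), (20, 0, 5), (1040, 1, 5), (196608, 1, 6), (9216, 0, 7), (589824, 1, 7), (68, 0, 8), (65552, 0, 9), (1536, 1, 9), (4160, 0, 10), (4194308, 1, 10), (272, 0, 11), (1032, 1, 11), (8404992, 0, 12), (49152, 0, 13), (544, 1, 14), (4194432, 0, 16), (4195328, 0, 17), (2621440, 1, 18), (2098176, 0, 20), (1572864, 1, 20), (2052, 0, 21), (131088, 1, 21), (1280, 0, 23), (524296, 1, 23), (1310720, 1, 24), (264192, 0, 25), (8224, 0, 26), (8454144, 1, 26), (524304, 0, 27), (8421376, 0, 28), (8448, 1, 28), (16896, 0, 29), (2097280, 1, 29), (327680, 0, 30), (40, 0, 31), (1048704, 0, 32), (655360, 0, 33), (192, 0, 34), (5242880, 0, 35), (4196352, 1, 36), (67584, 1, 37), (1028, 0, 38), (2162688, 0, 39), (1049088,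 1, 39), (264, 0, 40), (32776, 1, 40), (528, 0, 41), (4112, 1, 42)]
def duadL1_6 : List (ℕ × ℕ × ℕ) := duadL1_6_0
def duadL1_7_0 : List (ℕ × ℕ × ℕ) := [(2560, 0, 0), (2228224, 1, 0), (8704, 0, 1), (131136, 0, 2), (36, 1, 2), (69632, 0, 4), (65544, 0, 5), (33280, 1, 5), (8388616, 0, 6), (66560, 1, 7), (260, 1, 8), (16400, 0, 9), (1152, 1, 9), (24, 0, 11), (262148, 0, 13), (262160, 1, 13), (65568, 0, 14), (8389120, 1, 14), (320, 1, 16), (2129920, 0, 17), (1056768, 1, 17), (163840, 0, 18), (1049600, 0, 19), (10485760, 1, 20), (8388864, 1, 21), (20480, 0, 22), (4194560, 1, 23), (16640, 0, 24), (136, 1, 24), (131584, 1, 25), (98304, 1, 26), (8912896, 0, 27), (16512, 0, 28), (2056, 1, 29), (1088, 0, 31), (524292, 1, 31), (2097168, 0, 32), (16392, 0, 33), (32896, 1, 33), (524352, 0, 35), (16388, 1, 35), (1081344, 0, 36), (12288, 1, 36), (4608, 0, 37),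 (3072, 1, 38), (768, 0, 40), (2097160, 1, 40), (24576, 0, 41), (516, 0, 42), (2080, 0, 44), (2064, 0, 45), (1048832, 0, 48), (4104, 1, 48), (294912, 1, 52)]
def duadL1_7 : List (ℕ × ℕ × ℕ) := duadL1_7_0
def duadL1_8_0 : List (ℕ × ℕ × ℕ) := [(135168, 1, 0), (4259840, 1, 1), (1048640, 0, 2), (8196, 0, 3), (144, 0, 6), (1179648, 0, 7), (8388624, 0, 9), (32832, 1, 13), (4194336, 1, 19), (2101248, 0, 23), (270336, 1, 25), (557056, 0, 27), (640, 0, 28), (1056, 1, 30), (81920, 0, 35), (131328, 0, 41), (262208, 0, 42), (266240, 1, 43), (8390656, 0, 44), (4194368, 1, 46), (524544, 0, 51)]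
def duadL1_8 : List (ℕ × ℕ × ℕ) := duadL1_8_0
def duadL1_9_0 : List (ℕ × ℕ × ℕ) := [(48, 0, 1), (8389632, 1, 1), (4456448, 1, 9)]
def duadL1_9 : List (ℕ × ℕ × ℕ) := duadL1_9_0
def duadPos_0 : List (ℕ × ℕ × ℕ) := [(0, 0, 0), (1, 6, 2), (1, 0, 0), (1, 3, 0), (1, 5, 4), (2, 5, 25), (1, 5, 2), (1, 2, 0), (2, 7, 5), (2, 8, 13), (1, 5, 8), (1, 4, 3), (2, 8, 4), (2, 7, 39), (2, 10, 0), (1, 4, 1), (1, 6, 1), (2, 7, 10), (2, 3, 7), (2, 4, 14), (2, 6, 38), (1, 5, 6), (1, 4, 0), (2, 4, 13), (2, 8, 28), (2, 9, 4), (2, 6, 18), (2, 7, 42), (1, 3, 3), (1, 3, 4), (2, 8, 10), (2, 7, 49), (2, 7, 15), (2, 5, 6), (2, 8, 18), (2, 3, 6), (1, 5, 0), (1, 1, 1), (2, 8, 48), (2, 6, 32), (2, 7, 51), (2, 7, 19), (2, 6, 42), (2, 9, 12), (2, 8, 45), (1, 2, 1), (1, 6, 3), (2, 7, 46), (2, 7, 16), (2, 7, 6), (2, 9, 13), (2, 8, 34), (2, 8, 12), (2, 7, 27), (2, 7, 12), (1, 4, 11),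 (1, 4, 13), (2, 7, 25), (2, 8, 33), (2, 8, 50)]
def duadPos_1 : List (ℕ × ℕ × ℕ) := [(2, 8, 49), (2, 6, 21), (2, 7, 0), (2, 5, 1), (2, 8, 0), (2, 8, 44), (1, 6, 0), (1, 2, 3), (2, 6, 30), (2, 8, 52), (2, 7, 52), (2, 5, 0), (2, 7, 13), (2, 5, 21), (2, 5, 10), (2, 8, 43), (2, 2, 0), (2, 6, 25), (1, 5, 5), (1, 5, 3), (2, 9, 3), (2, 6, 34), (2, 6, 15), (2, 7, 31), (2, 6, 8), (2, 6, 4), (2, 7, 35), (2, 8, 2), (2, 7, 8), (2, 5, 13), (2, 8, 42), (1, 4, 7), (1, 4, 9), (2, 8, 40), (2, 8, 37), (2, 8, 11), (2, 3, 2), (2, 5, 7), (2, 8, 32), (2, 8, 27), (2, 7, 36), (2, 6, 28), (2, 4, 2), (2, 8, 25), (2, 8, 47), (1, 5, 7), (1, 3, 1), (2, 6, 14), (2, 7, 50), (2, 5, 26), (2, 4, 9), (2, 9, 7), (2, 8, 38), (2, 6, 33), (2, 8, 7), (2, 4, 3), (2, 5, 3), (2, 5, 22), (2, 7, 2), (2, 7, 18)]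
def duadPos_2 : List (ℕ × ℕ × ℕ) := [(1, 1, 0), (1, 6, 4), (2, 6, 9), (2, 8, 6), (2, 7, 11), (2, 8, 16), (2, 6, 5), (2, 6, 41), (2, 6, 27), (2, 5, 24), (2, 8, 9), (2, 7, 45), (2, 8, 5), (2, 7, 3), (2, 9, 14), (2, 8, 30), (1, 4, 2), (1, 5, 10), (2, 6, 22), (2, 5, 2), (2, 7, 26), (2, 6, 7), (2, 8, 3), (2, 7, 1), (2, 9, 15), (2, 8, 29), (2, 5, 16), (2, 6, 6), (2, 9, 0), (2, 5, 4), (2, 6, 3), (2, 8, 21), (2, 7, 7), (1, 3, 5), (1, 3, 6), (2, 8, 14), (2, 6, 16), (2, 8, 15), (2, 6, 17), (2, 9, 16), (2, 4, 8), (2, 3, 1), (2, 6, 35), (2, 6, 0), (2, 7, 30), (2, 9, 17), (2, 9, 10), (2, 4, 7), (2, 8, 53), (2, 7, 38), (2, 6, 37), (1, 4, 8), (1, 4, 6), (2, 8, 35), (2, 7, 28), (2, 7, 33), (2, 5, 17), (2, 8, 39), (2, 6, 29), (2, 9, 20)]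
def duadPos_3 : List (ℕ × ℕ × ℕ) := [(2, 4, 11), (2, 6, 12), (2, 6, 2), (2, 3, 4), (2, 4, 4), (2, 6, 13), (2, 9, 11), (2, 7, 9), (2, 7, 41), (2, 6, 1), (1, 2, 2), (1, 4, 5), (2, 5, 19), (2, 2, 3), (2, 6, 40), (2, 6, 23), (2, 9, 2), (2, 7, 40), (2, 8, 51), (2, 7, 48), (2, 8, 22), (2, 4, 1), (2, 5, 8), (2, 8, 20), (2, 5, 20), (2, 8, 41), (2, 6, 11), (2, 9, 5), (2, 7, 29), (2, 7, 24), (1, 4, 4), (1, 5, 1), (2, 7, 4), (2, 8, 46), (2, 8, 36), (2, 1, 0), (2, 5, 18), (2, 7, 37), (2, 2, 2), (2, 4, 5), (2, 7, 23), (2, 5, 15), (2, 9, 9), (2, 6, 10), (2, 4, 12), (2, 8, 19), (2, 7, 47), (2, 8, 1), (2, 6, 36), (2, 7, 22), (2, 4, 6), (1, 4, 12), (1, 4, 10), (2, 7, 14), (2, 5, 11), (2, 6, 31), (2, 9, 8), (2, 9, 19), (2, 7, 20), (2, 8, 26)]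
def duadPos_4 : List (ℕ × ℕ × ℕ) := [(2, 5, 14), (2, 7, 21), (2, 7, 44), (2, 5, 9), (2, 5, 23), (2, 3, 5), (2, 5, 12), (2, 9, 1), (2, 6, 26), (2, 10, 2), (2, 2, 1), (2, 7, 43), (2, 4, 0), (1, 5, 9), (1, 3, 2), (2, 6, 39), (2, 8, 8), (2, 9, 6), (2, 6, 20), (2, 6, 19), (2, 3, 3), (2, 8, 24), (2, 8, 17), (2, 10, 1), (2, 9, 18), (2, 6, 24), (2, 4, 10), (2, 7, 17), (2, 7, 34), (2, 7, 32), (2, 5, 5), (2, 3, 0), (2, 8, 31), (2, 1, 1), (2, 8, 23), (2, 0, 0)]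
def duadPos : List (ℕ × ℕ × ℕ) := duadPos_0
  ++ duadPos_1
  ++ duadPos_2
  ++ duadPos_3
  ++ duadPos_4
/-- The certificate for the suborbits at the base duad. -/
def duadCert : Cert ℕ where
  base := 3
  gens := [515401908092919846887052543038329558143765812705645035521, 492609771019015150345568223035462383311462535733650718976]
  classes := [(6, [duadL0_0, duadL0_1, duadL0_2, duadL0_3, duadL0_4, duadL0_5]),
    (12582912, [duadL1_0, duadL1_1, duadL1_2, duadL1_3, duadL1_4, duadL1_5, duadL1_6, duadL1_7, duadL1_8, duadL1_9])]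
  pos := duadPos
  movers := [(563966621022008034872610010459283104912152472845665108481, (0, 0), [(0, (0, 0), 1, 5, 25)]),
    (100282430913604148406615130338594619360710202502092311, (0, 0), [(1, (1, 1), 0, 3, 3)])]

end CfsgLib.M24Orbits
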