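import Cfsg.Agent.Lib.M24Orbits.Perm
import Mathlib.GroupTheory.GroupAction.Defs

/-!
Schreier forests of objects given by masks, checked by the kernel.
-/

set_option autoImplicit false

namespace CfsgLib.M24Orbits

open Cfsg CfsgLib.Comp MulAction
open scoped Pointwise

/-- Objects given by masks: decoding, image under a code, and a sound equality test. -/
structure Coding (α X : Type) [MulAction (Equiv.Perm GolayPt) X] where
  dec : α → X
  img : ℕ → α → α
  eqb : α → α → Bool
  dec_img : ∀ p, PermCode.Ok 24 p → ∀ r, dec (img p r) = perm p • dec r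
  eqb_sound : ∀ r r', eqb r r' = true → dec r = dec r'

/-- Point sets. -/
noncomputable def setCoding : Coding ℕ (Finset GolayPt) where
  dec := Golay.toSet
  img := app
  eqb := Nat.beq
  dec_img _ h r := toSet_app h r
  eqb_sound r r' h := by rw [Nat.eq_of_beq_eq_true h]

/-- Every entry of `l` occurs in `l'`. -/
def subFam (l l' : List ℕ) : Bool := l.all fun x => l'.any (Nat.beq x)

/-- The family of point sets of a list of masks. -/
def famDec (l : List ℕ) : Finset (Finset GolayPt) := (l.map Golay.toSet).toFinset

theorem subFam_sound {l l' : List ℕ} (h : subFam l l' = true) : famDec l ⊆ famDec l' := by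
  intro s hs
  simp only [famDec, List.mem_toFinset, List.mem_map] at hs ⊢
  obtain ⟨x, hx, rfl⟩ := hs
  obtain ⟨y, hy, e⟩ := List.any_eq_true.1 (List.all_eq_true.1 h x hx)
  exact ⟨y, hy, by rw [Nat.eq_of_beq_eq_true e]⟩

theorem famDec_img {p : ℕ} (h : PermCode.Ok 24 p) (l : List ℕ) :
    famDec (l.map (app p)) = perm p • famDec l := by
  ext s
  simp only [famDec, List.map_map, List.mem_toFinset, List.mem_map, Finset.mem_smul_finset,
    Function.comp_apply]
  exact ⟨fun ⟨x, hx, e⟩ => ⟨_, ⟨x, hx, rfl⟩, by rw [← toSet_app h, e]⟩,
    fun ⟨_, ⟨x, hx, rfl⟩, e⟩ => ⟨x, hx, by rw [toSet_app h, e]⟩⟩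

/-- Families of point sets. -/
noncomputable def famCoding : Coding (List ℕ) (Finset (Finset GolayPt)) where
  dec := famDec
  img p l := l.map (app p)
  eqb l l' := subFam l l' && subFam l' l
  dec_img _ h l := famDec_img h l
  eqb_sound l l' h := by
    simp only [Bool.and_eq_true] at h
    exact Finset.Subset.antisymm (subFam_sound h.1) (subFam_sound h.2)

variable {α X : Type} [MulAction (Equiv.Perm GolayPt) X] (C : Coding α X)

/-- The generators lie in the group of the code and fix `a`. -/
noncomputable def gensOk (gens : List ℕ) (a : α) : Bool :=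
  gens.all fun p => okM24 p && C.eqb (C.img p a) a

/-- A level of a forest follows from the previous one. -/
noncomputable def levelOk (gens : List ℕ) (prev : List α) (cur : List (α × ℕ × ℕ)) : Bool :=
  cur.all fun e => match gens[e.2.1]?, prev[e.2.2]? with
    | some p, some r => C.eqb (C.img p r) e.1
    | _, _ => false

/-- The check of a whole forest. -/
noncomputable def forestOk (gens : List ℕ) : List α → List (List (α × ℕ × ℕ)) → Bool
  | _, [] => true
  | prev, cur :: rest => levelOk C gens prev cur && forestOk gens (cur.map Prod.fst) rest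

/-- The objects of a forest, level by level. -/
def objLevels (root : α) (levels : List (List (α × ℕ × ℕ))) : List (List α) :=
  [root] :: levels.map fun l => l.map Prod.fst

/-- Looking up the entry of a class, level and index. -/
def entry (objs : List (List (List α))) (q : ℕ × ℕ × ℕ) : Option α :=
  (((objs[q.1]?).getD [])[q.2.1]?.getD [])[q.2.2]?

/-- Each representative is related to the entry given for it. -/
def coverOk {β : Type} (rel : β → α → Bool) (objs : List (List (List α))) :
    List β → List (ℕ × ℕ × ℕ) → Bool
  | [], [] => true
  | b :: bs, q :: qs => (match entry objs q with | some r => rel b r | none => false) && coverOk rel objs bs qs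
  | _, _ => false

theorem coverOk_sound {β : Type} {rel : β → α → Bool} {objs : List (List (List α))} :
    ∀ {bs : List β} {qs : List (ℕ × ℕ × ℕ)}, coverOk rel objs bs qs = true →
      ∀ b ∈ bs, ∃ (i : ℕ) (l : List (List α)) (r : α), objs[i]? = some l ∧ r ∈ l.flatten ∧ rel b r = true
  | [], _, _, b, hb => by simp at hb
  | c :: bs, [], h, _, _ => by simp [coverOk] at h
  | c :: bs, q :: qs, h, b, hb => by
    simp only [coverOk, Bool.and_eq_true] at h
    rcases List.mem_cons.1 hb with rfl | hb
    · obtain ⟨h, -⟩ := h
      cases hr : entry objs q with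
      | none => simp [hr] at h
      | some r =>
        simp only [hr] at h
        unfold entry at hr
        cases hl : objs[q.1]? with
        | none => simp [hl] at hr
        | some l =>
          cases hm : l[q.2.1]? with
          | none => simp [hl, hm] at hr
          | some m =>
            simp only [hl, hm, Option.getD_some] at hr
            exact ⟨q.1, l, r, hl, List.mem_flatten.2 ⟨m, List.mem_of_getElem? hm,
              List.mem_of_getElem? hr⟩, h⟩
    · exact coverOk_sound h.2 b hb

variable {C}

theorem gens_mem {gens : List ℕ} {a : α} (h : gensOk C gens a = true) {p : ℕ} (hp : p ∈ gens) :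
    PermCode.Ok 24 p ∧ ∃ g ∈ stabilizer M24 (C.dec a), (g : Equiv.Perm GolayPt) = perm p := by
  have := List.all_eq_true.1 h p hp
  simp only [Bool.and_eq_true] at this
  refine ⟨okM24_ok this.1, elt p this.1, ?_, rfl⟩
  show perm p • C.dec a = C.dec a
  rw [← C.dec_img p (okM24_ok this.1), C.eqb_sound _ _ this.2]

theorem forest_mem {gens : List ℕ} {a : α} (hg : gensOk C gens a = true) {x : X} :
    ∀ {levels : List (List (α × ℕ × ℕ))} {prev : List α}, forestOk C gens prev levels = true →
      (∀ r ∈ prev, C.dec r ∈ orbit (stabilizer M24 (C.dec a)) x) →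
      ∀ r ∈ (levels.map fun l => l.map Prod.fst).flatten, C.dec r ∈ orbit (stabilizer M24 (C.dec a)) x
  | [], _, _, _, r, hr => by simp at hr
  | cur :: rest, prev, h, hprev, r, hr => by
    simp only [forestOk, Bool.and_eq_true] at h
    have hcur : ∀ r ∈ cur.map Prod.fst, C.dec r ∈ orbit (stabilizer M24 (C.dec a)) x := by
      intro r hr
      obtain ⟨e, he, rfl⟩ := List.mem_map.1 hr
      have := List.all_eq_true.1 h.1 e he
      cases hp : gens[e.2.1]? with
      | none => simp [hp] at this
      | some p =>
        cases hq : prev[e.2.2]? with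
        | none => simp [hp, hq] at this
        | some q =>
          simp only [hp, hq] at this
          obtain ⟨hok, g, hgs, hgp⟩ := gens_mem hg (List.mem_of_getElem? hp)
          rw [← C.eqb_sound _ _ this, C.dec_img p hok, ← hgp]
          rw [← orbit_eq_iff.2 (hprev q (List.mem_of_getElem? hq))]
          exact ⟨⟨g, hgs⟩, rfl⟩
    simp only [List.map_cons, List.flatten_cons, List.mem_append] at hr
    exact hr.elim (hcur r) (forest_mem hg h.2 hcur r)

theorem objLevels_mem {gens : List ℕ} {a root : α} (hg : gensOk C gens a = true)
    {levels : List (List (α × ℕ × ℕ))} (h : forestOk C gens [root] levels = true) :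
    ∀ r ∈ (objLevels root levels).flatten,
      C.dec r ∈ orbit (stabilizer M24 (C.dec a)) (C.dec root) := by
  intro r hr
  simp only [objLevels, List.flatten_cons, List.mem_append, List.mem_singleton] at hr
  rcases hr with rfl | hr
  · exact mem_orbit_self _
  · exact forest_mem hg h (fun q hq => by rw [List.mem_singleton.1 hq]; exact mem_orbit_self _) r hr

end CfsgLib.M24Orbits
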