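import Cfsg.Agent.Lib.M24Orbits.OctadData
import Cfsg.Agent.Lib.M24Orbits.Reps

/-! Kernel check of the certificate for the base octad. -/

set_option autoImplicit false

namespace CfsgLib.M24Orbits

open scoped Pointwise

theorem octad_ok : octadCert.ok setCoding Nat.beq octadList = true := by decide +kernel

theorem octad_closed : octadCert.closed setCoding = true := by decide +kernel

end CfsgLib.M24Orbits
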