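import Cfsg.Agent.Lib.M24Orbits.Cert

/-! Certificate data (machine written) for suborbits of the group of the code: octad. -/

set_option autoImplicit false

namespace CfsgLib.M24Orbits

def octadL0_0_0 : List (ℕ × ℕ × ℕ) := [(1613974, 1, 0)]
def octadL0_0 : List (ℕ × ℕ × ℕ) := octadL0_0_0
def octadL0_1_0 : List (ℕ × ℕ × ℕ) := [(535268, 0, 0), (2130606, 1, 0)]
def octadL0_1 : List (ℕ × ℕ × ℕ) := octadL0_1_0
def octadL0_2_0 : List (ℕ × ℕ × ℕ) := [(2141072, 0, 0), (3179802, 1, 0), (2101096, 0, 1)]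
def octadL0_2 : List (ℕ × ℕ × ℕ) := octadL0_2_0
def octadL0_3_0 : List (ℕ × ℕ × ℕ) := [(2106966, 0, 0), (1608104, 1, 0), (1573998, 0, 1), (1584464, 1, 2)]
def octadL0_3 : List (ℕ × ℕ × ℕ) := octadL0_3_0
def octadL0_4_0 : List (ℕ × ℕ × ℕ) := [(3189796, 0, 0), (36294, 1, 0), (525274, 0, 1), (3678776, 1, 1), (3704512, 1, 3)]
def octadL0_4 : List (ℕ × ℕ × ℕ) := octadL0_4_0
def octadL0_5_0 : List (ℕ × ℕ × ℕ) := [(1084018, 1, 0), (2631052, 1, 2)]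
def octadL0_5 : List (ℕ × ℕ × ℕ) := octadL0_5_0
def octadL0_6_0 : List (ℕ × ℕ × ℕ) := [(2654580, 0, 0), (1050548, 1, 0), (1060490, 0, 1), (2664522, 1, 1)]
def octadL0_6 : List (ℕ × ℕ × ℕ) := octadL0_6_0
def octadL0_7_0 : List (ℕ × ℕ × ℕ) := [(2624690, 1, 0), (3672838, 0, 1), (1090380, 1, 2), (42232, 0, 3)]
def octadL0_7 : List (ℕ × ℕ × ℕ) := octadL0_7_0
def octadL0_8_0 : List (ℕ × ℕ × ℕ) := [(3147996, 1, 0), (567074, 1, 2)]
def octadL0_8 : List (ℕ × ℕ × ℕ) := octadL0_8_0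
def octadL0_9_0 : List (ℕ × ℕ × ℕ) := [(560668, 0, 0), (3154402, 0, 1)]
def octadL0_9 : List (ℕ × ℕ × ℕ) := octadL0_9_0
def octadL1_0_0 : List (ℕ × ℕ × ℕ) := [(8593633, 0, 0), (10846245, 1, 0)]
def octadL1_0 : List (ℕ × ℕ × ℕ) := octadL1_0_0
def octadL1_1_0 : List (ℕ × ℕ × ℕ) := [(8499969, 0, 0), (8619033, 1, 0), (8592704, 0, 1), (8849458, 1, 1)]
def octadL1_1 : List (ℕ × ℕ × ℕ) := octadL1_1_0
def octadL1_2_0 : List (ℕ × ℕ × ℕ) := [(10825794, 0, 0), (9158944, 1, 0), (9506893, 0, 1), (1413139, 0, 2), (10110017, 1, 2), (201013, 0, 3), (9830549, 1, 3)]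
def octadL1_2 : List (ℕ × ℕ × ℕ) := octadL1_2_0
def octadL1_3_0 : List (ℕ × ℕ × ℕ) := [(504864, 0, 0), (8834052, 1, 0), (4264387, 0, 1), (15335473, 1, 1), (9279496, 0, 2), (8611330, 1, 2), (9310308, 0, 3), (475812, 1, 3), (14254209, 0, 4), (14747201, 1, 4), (8657159, 0, 5), (737427, 1, 5), (9112069, 0, 6), (8716939, 1, 6)]
def octadL1_3 : List (ℕ × ℕ × ℕ) := octadL1_3_0
def octadL1_4_0 : List (ℕ × ℕ × ℕ) := [(1454401, 0, 0), (442481, 1, 0), (5441617, 0, 1), (13893731, 1, 1), (8704546, 0, 2), (742412, 1, 2), (8471941, 0, 3), (10557585, 1, 3), (463064, 0, 4), (11952160, 1, 4), (7417889, 0, 5), (12747077, 1, 5), (493953, 0, 6), (10765331, 1, 6), (6429441, 0, 7), (4587803, 1, 7), (8999616, 0, 8), (10687016, 1, 8), (11654144, 0, 9), (10305542, 1, 10), (12587685, 0, 11), (6488205, 1, 11), (11731203, 1, 12), (8855820, 1, 13)]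
def octadL1_4 : List (ℕ × ℕ × ℕ) := octadL1_4_0
def octadL1_5_0 : List (ℕ × ℕ × ℕ) := [(902657, 1, 0), (4523185, 1, 1), (8966165, 0, 2), (1250945, 1, 2), (8721940, 1, 3), (6750560, 0, 4), (12861748, 1, 4), (5511305, 0, 5), (6447171, 1, 5), (13703682, 0, 6), (13303882, 1, 6), (9652360, 1, 7), (430605, 0, 8), (418953, 1, 8), (4924673, 0, 9), (12880401, 1, 9), (9204992, 0, 10), (252432, 1, 10), (8505411, 0, 11), (8983587, 1, 11), (8524371, 0, 12), (2031657, 1, 12), (13829156, 0, 13), (12912836, 1, 13), (1661185, 1, 14), (8536111, 0, 15), (864389, 1, 15), (6656640, 0, 16), (14828808, 1, 16), (2430217, 0, 17), (8546577, 1, 17), (6100032, 0, 18), (12733024, 1, 18), (4921504, 0, 19), (15073798, 1, 19), (10832640, 0, 20), (8474906, 1, 20), (8412681, 0, 21), (210955, 1, 21)]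
def octadL1_5 : List (ℕ × ℕ × ℕ) := octadL1_5_0
def octadL1_6_0 : List (ℕ × ℕ × ℕ) := [(15864000, 0, 0), (9589508, 0, 1), (14762146, 1, 2), (12325377, 0, 3), (213833, 1, 3), (3610628, 0, 4), (8798658, 1, 4), (185603, 0, 5), (924689, 1, 5), (4409606, 0, 6), (13373586, 1, 6), (9323032, 0, 7), (1405448, 1, 7), (12641313, 0, 8), (4299781, 1, 8), (2969648, 0, 9), (118953, 0, 10), (10630149, 1, 10), (4788761, 0, 11), (13771273, 1, 11), (10881097, 0, 12), (352547, 1, 12), (4563017, 1, 13), (9465987, 0, 14), (2854977, 1, 14), (10698836, 0, 15), (9769376, 1, 15), (5709954, 0, 16), (15515712, 1, 16), (6557781, 0, 17), (5390753, 1, 17), (12685424, 0, 18), (9048457, 0, 21), (2564625, 1, 21), (9835530, 1, 23), (8077824, 1, 24), (12650793, 0, 25), (12656663, 1, 25), (8796800, 0, 26), (2605066, 1, 26), (2512448, 0, 27), (416040, 1, 27), (5325835, 0, 28), (13121601, 1, 28), (1009728, 1,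 29), (2019456, 0, 31), (6406417, 0, 32), (13636881, 1, 32), (283537, 0, 33), (3297305, 1, 33), (2313249, 0, 34), (6493202, 0, 35), (14551296, 1, 35), (4526126, 0, 36), (13262980, 1, 36), (16056344, 0, 37), (13721920, 1, 37), (8663097, 0, 38), (1302533, 1, 38)]
def octadL1_6 : List (ℕ × ℕ × ℕ) := octadL1_6_0
def octadL1_7_0 : List (ℕ × ℕ × ℕ) := [(7145475, 0, 1), (13124355, 1, 1), (4282144, 0, 2), (12720156, 1, 2), (11469952, 0, 3), (14716939, 0, 4), (1460739, 1, 5), (4424227, 0, 6), (13370381, 1, 6), (4800613, 1, 7), (3489985, 1, 8), (4216883, 0, 9), (5902343, 1, 9), (10768524, 1, 10), (14950785, 1, 11), (7221256, 0, 12), (4645632, 1, 12), (9721936, 0, 14), (1265762, 1, 14), (4593028, 0, 15), (6703248, 1, 15), (12849992, 0, 16), (4415544, 1, 16), (9776129, 0, 17), (2322816, 1, 18), (11100169, 0, 19), (12726562, 0, 21), (5210132, 1, 21), (8581192, 0, 22), (13443616, 0, 23),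 (12698124, 1, 23), (8688833, 0, 24), (12717187, 1, 25), (987906, 0, 26), (684577, 0, 27), (4441280, 0, 28), (14949408, 1, 28), (351362, 1, 29), (381252, 0, 31), (8541360, 1, 31), (8675909, 1, 34), (6837377, 0, 35), (10170384, 1, 36), (8484900, 0, 37), (8622214, 1, 37), (9748745, 1, 38), (4330601, 0, 39), (4597797, 1, 39), (7767041, 0, 40), (4476225, 1, 40), (6053905, 1, 41), (14176296, 0, 42), (4403780, 1, 42), (8773776, 0, 43), (4370577, 0, 44), (5112513, 0, 45), (6570537, 1, 45), (12604486, 0, 46), (5063048, 1, 48), (4287105, 1, 49)]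
def octadL1_7_1 : List (ℕ × ℕ × ℕ) := [(1332261, 0, 51), (153797, 1, 51), (421910, 1, 53), (4845570, 0, 56), (13276672, 1, 56)]
def octadL1_7 : List (ℕ × ℕ × ℕ) := octadL1_7_0
  ++ octadL1_7_1
def octadL1_8_0 : List (ℕ × ℕ × ℕ) := [(15274244, 1, 1), (7622914, 0, 2), (4870480, 1, 2), (346141, 0, 3), (8733800, 0, 5), (5571333, 1, 6), (10506593, 0, 7), (12638592, 0, 9), (4656648, 1, 10), (5329044, 1, 11), (9193633, 0, 12), (2183687, 1, 12), (12871690, 1, 13), (2422785, 1, 15), (5017889, 1, 16), (13911680, 1, 17), (4343317, 1, 18), (806987, 1, 19), (4223245, 0, 22), (9929280, 1, 23), (4470275, 0, 24), (4900873, 1, 24), (12661896, 0, 25), (14919680, 1, 25), (2494627, 1, 27), (10916112, 1, 29), (6379592, 0, 30), (9519665, 0, 32), (3031301, 1, 33), (5296705, 0, 35), (1525008, 0, 36), (5640752, 0, 37), (5652556, 1, 37), (4626498, 0, 38), (5129250, 1, 38), (12599513, 1, 39), (12944642,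 1, 40), (10666625, 1, 42), (4536592, 0, 43), (13811730, 1, 43), (334433, 0, 44), (95313, 1, 46), (14709264, 1, 51), (13009064, 1, 53), (5621792, 0, 57), (4346506, 0, 58), (5476616, 1, 59), (4538962, 1, 60), (4505735, 1, 62), (4485344, 0, 63), (6475812, 1, 63)]
def octadL1_8 : List (ℕ × ℕ × ℕ) := octadL1_8_0
def octadL1_9_0 : List (ℕ × ℕ × ℕ) := [(11163650, 1, 0), (5003780, 1, 1), (12985424, 1, 4), (13192208, 1, 6), (12780432, 0, 10), (13938692, 1, 12), (15747077, 0, 16), (6644740, 1, 17), (8783649, 1, 19), (9607201, 1, 23), (459847, 0, 25), (4510744, 0, 26), (5405696, 1, 26)]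
def octadL1_9 : List (ℕ × ℕ × ℕ) := octadL1_9_0
def octadL1_10_0 : List (ℕ × ℕ × ℕ) := [(9240913, 1, 8)]
def octadL1_10 : List (ℕ × ℕ × ℕ) := octadL1_10_0
def octadL2_0_0 : List (ℕ × ℕ × ℕ) := [(10560816, 0, 0), (9537812, 1, 0)]
def octadL2_0 : List (ℕ × ℕ × ℕ) := octadL2_0_0
def octadL2_1_0 : List (ℕ × ℕ × ℕ) := [(1127686, 0, 0), (9078992, 1, 0), (596054, 0, 1), (10093218, 1, 1)]
def octadL2_1 : List (ℕ × ℕ × ℕ) := octadL2_1_0
def octadL2_2_0 : List (ℕ × ℕ × ℕ) := [(1849378, 0, 0), (705094, 1, 0), (99029, 0, 1), (11535529, 1, 1), (301236, 0, 2), (3294342, 1, 2), (2687905, 0, 3), (10486557, 1, 3)]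
def octadL2_2 : List (ℕ × ℕ × ℕ) := octadL2_2_0
def octadL2_3_0 : List (ℕ × ℕ × ℕ) := [(926128, 0, 0), (3457556, 1, 0), (6326497, 0, 1), (6292775, 1, 1), (10525252, 0, 2), (198058, 1, 2), (10028808, 0, 3), (8464984, 1, 3), (396116, 0, 4), (1327290, 1, 4), (5770785, 0, 5), (4196943, 1, 5), (10491778, 0, 6), (2820376, 1, 6), (10554382, 0, 7), (8989058, 1, 7)]
def octadL2_3 : List (ℕ × ℕ × ℕ) := octadL2_3_0
def octadL2_4_0 : List (ℕ × ℕ × ℕ) := [(140167, 0, 0), (2916505, 1, 0), (6949956, 0, 1), (4459426, 1, 1), (8439632, 0, 2), (1121336, 1, 2), (9456930, 0, 3), (2460752, 0, 4), (1053483, 0, 5), (663645, 1, 5), (3739786, 0, 6), (11150144, 1, 6), (2207772, 0, 7), (9610624, 1, 7), (2263063, 0, 8), (1836419, 1, 8), (4850476, 0, 9), (4465308, 1, 9), (12075408, 0, 10), (3216208, 1, 10), (10537016, 0, 11), (3474978, 0, 12), (8931660, 1, 12), (5279, 0, 13), (3811457, 1, 13), (9578566,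 1, 14), (78514, 0, 15), (12222476, 1, 15)]
def octadL2_4 : List (ℕ × ℕ × ℕ) := octadL2_4_0
def octadL2_5_0 : List (ℕ × ℕ × ℕ) := [(622863, 1, 0), (8521420, 0, 1), (2435240, 1, 1), (1100945, 0, 2), (3152963, 1, 2), (2245426, 0, 3), (1839388, 1, 3), (7438406, 0, 4), (13108704, 1, 4), (1204944, 1, 5), (5833010, 0, 6), (14156372, 1, 6), (1217620, 0, 7), (1445088, 1, 7), (11272490, 0, 8), (615188, 1, 8), (8431757, 0, 9), (2204803, 1, 9), (792232, 0, 10), (2255372, 1, 10), (11046145, 1, 11), (277580, 0, 12), (190626, 1, 12), (1647171, 0, 13), (8946281, 1, 13), (8391797, 0, 14), (1116327, 1, 14), (2949708, 1, 15), (2115979, 0, 16), (2634003, 1, 16), (307594, 1, 17), (4785798, 0, 18), (15207048, 1, 18), (2921478, 0, 19), (675712, 1, 19), (4261212, 0, 20), (13641904, 1, 20), (3806496, 0, 21), (4294810, 0, 22), (16262146, 1, 22), (9701932, 0, 23), (90318, 1, 23), (8922769, 0, 24),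 (3246601, 1, 24), (632881, 0, 25), (9471495, 1, 25), (2372388, 0, 26), (180636, 1, 26), (593097, 0, 27)]
def octadL2_5 : List (ℕ × ℕ × ℕ) := octadL2_5_0
def octadL2_6_0 : List (ℕ × ℕ × ℕ) := [(8394986, 0, 0), (2826278, 1, 0), (8398155, 1, 1), (145176, 0, 2), (1484824, 1, 2), (5309160, 1, 3), (10257456, 0, 4), (1134148, 1, 4), (4721045, 1, 5), (919694, 0, 6), (2908802, 1, 6), (580704, 0, 7), (138790, 1, 7), (1164162, 0, 8), (11015256, 1, 8), (6857221, 0, 9), (4229001, 1, 9), (545190, 0, 10), (2757268, 1, 10), (2738308, 0, 11), (1869893, 0, 12), (18147, 1, 12), (1737489, 0, 13), (1312345, 1, 13), (11282452, 1, 14), (6305926, 0, 15), (6979970, 1, 15), (9543722, 1, 16), (9451104, 0, 17), (231532, 1, 17), (3539848, 0, 18), (2384216, 1, 18), (6302745, 0, 19), (5286147, 1, 19), (9503954, 0, 20), (12126304, 1, 20), (1369154, 1, 21), (4203377, 0, 22), (5275709, 1, 22), (11055264,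 0, 23), (2328324, 1, 23), (10584520, 0, 24), (8919856, 0, 26), (1245726, 1, 26), (2268296, 0, 27), (2501890, 1, 27), (12584506, 0, 28), (5842956, 1, 28), (8660134, 0, 29), (402026, 0, 30), (843820, 1, 30), (3168928, 0, 31), (2232654, 1, 31), (2180760, 0, 32), (11548936, 1, 32), (2377830, 1, 33), (7340691, 0, 34), (7864649, 1, 34), (1103886, 0, 35), (668866, 1, 35)]
def octadL2_6_1 : List (ℕ × ℕ × ℕ) := [(9474712, 1, 36), (2640465, 1, 37), (21116, 0, 38), (1192108, 1, 38), (1664160, 0, 39), (9708306, 1, 40), (4241960, 0, 41), (4367374, 1, 41), (11608708, 0, 42), (1256224, 1, 43), (8401364, 0, 44), (3375280, 1, 44), (8455014, 1, 45), (837906, 1, 46), (4726955, 1, 47), (3351624, 1, 48)]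
def octadL2_6 : List (ℕ × ℕ × ℕ) := octadL2_6_0
  ++ octadL2_6_1
def octadL2_7_0 : List (ℕ × ℕ × ℕ) := [(361272, 0, 0), (9462812, 1, 0), (15777, 0, 1), (9020484, 1, 2), (3416079, 0, 3), (582081, 1, 3), (1352353, 1, 4), (2675464, 0, 5), (1769924, 0, 6), (10748656, 1, 6), (7903248, 0, 7), (5375810, 1, 7), (8407702, 0, 8), (133817, 0, 9), (6432416, 0, 10), (6588684, 1, 10), (5538256, 0, 11), (7357552, 1, 11), (3410225, 0, 12), (1065303, 1, 12), (6820450, 0, 13), (1410188, 0, 14), (10513600, 1, 14), (2201890, 1, 15), (11551306, 0, 16), (602472, 1, 16), (6832158, 1, 17), (2363013, 0, 18), (4202192, 0, 19), (7473194, 1, 19), (15762208, 0, 21), (11010247, 0, 22), (337856, 1, 23), (208020, 0, 24), (11831426, 1, 24), (290352, 0, 25), (2627629, 1, 26), (8561204, 1, 27), (4038912, 0, 28), (39257, 0, 29), (1188915, 1, 29), (2754059, 0, 30), (797449, 1, 30), (5024896, 1, 31), (1161408,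 1, 32), (8937586, 0, 33), (1675812, 1, 33), (628112, 0, 35), (11669008, 1, 35), (5939296, 0, 36), (4490852, 1, 36), (10543366, 0, 37), (657763, 1, 40), (104010, 0, 41), (9055272, 1, 41), (2425238, 0, 42), (1075305, 1, 44), (3227948, 0, 46), (555160, 0, 47), (3322370, 1, 47)]
def octadL2_7_1 : List (ℕ × ℕ × ℕ) := [(8683614, 1, 48), (2269481, 0, 49), (304405, 1, 49), (4336072, 0, 50), (6594610, 1, 50), (7079696, 0, 51), (5262104, 1, 51), (298027, 0, 52), (551943, 1, 52), (7345676, 0, 53), (861210, 0, 54), (10021376, 1, 54), (4361520, 0, 55), (5508118, 1, 55), (11028004, 0, 56), (72588, 1, 56), (8963210, 0, 57), (2702848, 1, 57), (4982904, 0, 58), (5268006, 1, 58), (2147405, 1, 59), (8414120, 1, 60), (14714004, 0, 61), (7409024, 1, 61), (4220306, 1, 62), (57883, 1, 63), (5780352, 0, 64), (6455896, 1, 64), (9208708, 1, 65), (1110320, 1, 66), (45159, 1, 67), (8555274, 1, 68),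 (371206, 0, 70), (530245, 0, 71), (9045270, 1, 72), (4325622, 0, 73), (8126628, 1, 73), (1618953, 0, 75), (175681, 1, 75)]
def octadL2_7 : List (ℕ × ℕ × ℕ) := octadL2_7_0
  ++ octadL2_7_1
def octadL2_8_0 : List (ℕ × ℕ × ℕ) := [(12624578, 1, 1), (1687640, 1, 2), (10650722, 1, 3), (6915112, 1, 5), (6554826, 0, 7), (6842656, 1, 7), (563843, 0, 8), (8654232, 1, 9), (804052, 0, 10), (3719203, 0, 11), (6359604, 0, 12), (13631886, 1, 12), (1122713, 1, 13), (3172097, 0, 14), (150618, 0, 15), (5817604, 0, 17), (1903248, 1, 18), (13142054, 0, 19), (2409888, 0, 20), (2120980, 1, 20), (1710664, 0, 21), (5350928, 0, 22), (13667400, 1, 22), (267634, 0, 23), (1722420, 1, 23), (12594948, 1, 24), (2810896, 1, 25), (4213932, 0, 26), (1378634, 1, 27), (1070536, 1, 28), (542009, 0, 29), (1063445, 1, 29), (2704706, 0, 30), (8490656, 0, 31), (951624, 1, 32), (1212619, 1, 33), (722544, 0, 34),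 (7479572, 0, 35), (3237906, 1, 36), (2173253, 0, 37), (8421811, 1, 37), (3050016, 1, 38), (9969957, 0, 40), (10625178, 0, 42), (3444840, 1, 43), (832080, 0, 44), (1230376, 1, 44), (4301220, 0, 45), (2890176, 0, 46), (1315526, 0, 47), (2769128, 1, 47), (3736597, 0, 48), (9440193, 1, 48), (2135601, 1, 49), (3328320, 0, 50), (4271202, 0, 51), (157028, 1, 53), (11575377, 1, 54), (13148440, 0, 56), (4726026, 0, 57)]
def octadL2_8_1 : List (ℕ × ℕ × ℕ) := [(4860434, 1, 57), (7397512, 1, 58), (2892897, 0, 59), (52005, 1, 59), (884962, 1, 62), (9568632, 0, 67), (1384564, 1, 67), (3951624, 0, 69), (31554, 1, 69), (2531524, 1, 70), (6889680, 0, 71), (1577201, 1, 72), (14682450, 1, 74), (2365978, 0, 75), (1728778, 1, 75), (14688364, 1, 76), (3421328, 0, 77), (4231958, 1, 79), (6365962, 0, 81), (1594898, 0, 83), (4755660, 1, 84), (2296514, 0, 88), (4989254, 0, 89), (4768432, 1, 89),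 (8694112, 0, 90), (115766, 1, 90), (2162811, 0, 91), (2242672, 0, 92), (1474854, 1, 92), (10232008, 0, 97), (2220640, 1, 97), (1148257, 1, 98)]
def octadL2_8 : List (ℕ × ℕ × ℕ) := octadL2_8_0
  ++ octadL2_8_1
def octadL2_9_0 : List (ℕ × ℕ × ℕ) := [(8426796, 1, 0), (5409412, 0, 8), (1186194, 1, 10), (608810, 0, 11), (8925710, 1, 11), (762504, 1, 12), (4819776, 1, 13), (5252293, 1, 14), (5785794, 0, 15), (84464, 0, 17), (11538486, 1, 17), (3698756, 0, 21), (168928, 1, 21), (9998658, 1, 25), (5255258, 1, 27), (692282, 0, 28), (1975812, 1, 28), (6062602, 0, 29), (4744776, 1, 29), (5280930, 0, 32), (75309, 1, 35), (3182981, 0, 36), (2229713, 1, 36), (4731956, 0, 38), (8436754, 0, 39), (1805314, 1, 39), (8978620, 1, 40), (11108882, 1, 42), (427666, 0, 48), (280334, 1, 49), (9968772, 0, 51), (11797828, 0, 53), (4752467, 0, 54), (2121909, 0, 60), (2491452, 1, 64), (702724, 0, 66),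 (5899416, 0, 67), (7612992, 1, 67), (63108, 0, 70), (1337732, 1, 73), (126216, 0, 75), (314056, 1, 76), (2126890, 0, 78), (6308804, 1, 79), (1182989, 1, 81), (6295992, 1, 83), (237906, 0, 84), (5249380, 0, 85), (786999, 1, 88), (10790408, 1, 89), (6337856, 0, 90)]
def octadL2_9 : List (ℕ × ℕ × ℕ) := octadL2_9_0
def octadL2_10_0 : List (ℕ × ℕ × ℕ) := [(1589901, 1, 2), (2110153, 0, 5), (2150610, 0, 6), (855332, 0, 10), (6344194, 1, 11), (2392899, 0, 12), (262637, 0, 15), (1852256, 0, 19), (9178690, 0, 21), (9486564, 1, 24), (3277413, 1, 25), (2168036, 0, 27), (10619300, 1, 27), (272595, 1, 34), (1351424, 1, 37), (4243818, 1, 38), (5514536, 1, 41), (4253780, 1, 42), (9963547, 0, 44), (689317, 1, 46)]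
def octadL2_10 : List (ℕ × ℕ × ℕ) := octadL2_10_0
def octadL2_11_0 : List (ℕ × ℕ × ℕ) := [(4063314, 1, 3), (69395, 1, 10)]
def octadL2_11 : List (ℕ × ℕ × ℕ) := octadL2_11_0
def octadPos_0 : List (ℕ × ℕ × ℕ) := [(0, 0, 0), (2, 8, 63), (2, 0, 0), (2, 10, 5), (2, 7, 58), (2, 5, 19), (2, 8, 12), (2, 8, 15), (2, 8, 25), (2, 7, 39), (2, 8, 5), (3, 5, 27), (3, 8, 4), (2, 8, 42), (2, 8, 50), (2, 9, 39), (2, 3, 3), (2, 8, 27), (2, 6, 2), (2, 8, 62), (2, 7, 37), (2, 7, 55), (2, 7, 49), (3, 5, 12), (3, 8, 26), (2, 5, 9), (2, 5, 10), (3, 9, 9), (2, 9, 50), (2, 1, 1), (3, 7, 1), (2, 8, 51), (2, 6, 21), (3, 7, 27), (3, 7, 50), (2, 7, 53), (2, 6, 25), (2, 7, 15), (2, 4, 3), (3, 8, 64), (3, 10, 10), (2, 8, 22), (2, 7, 57), (3, 10, 15), (3, 7, 38), (2, 7, 28), (2, 7, 24), (2, 3, 0), (2, 6, 8), (3, 10, 11), (3, 6, 7), (2, 8, 28), (2, 7, 22), (2, 6, 10), (2, 9, 17), (2, 9, 32), (2, 3, 2),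 (3, 9, 57), (3, 12, 0), (2, 7, 25)]
def octadPos_1 : List (ℕ × ℕ × ℕ) := [(2, 7, 29), (3, 9, 1), (3, 10, 14), (3, 5, 9), (3, 8, 60), (3, 8, 49), (2, 8, 18), (2, 5, 3), (2, 4, 6), (2, 8, 9), (3, 8, 90), (3, 9, 44), (3, 9, 75), (2, 7, 31), (2, 5, 1), (3, 8, 45), (3, 9, 66), (3, 9, 86), (2, 7, 45), (2, 4, 8), (2, 7, 27), (2, 7, 23), (2, 7, 54), (2, 6, 26), (2, 8, 44), (2, 9, 48), (3, 9, 61), (3, 5, 10), (2, 8, 13), (2, 5, 21), (2, 8, 53), (2, 8, 54), (2, 7, 10), (2, 4, 11), (2, 9, 9), (2, 3, 6), (1, 1, 0), (3, 5, 1), (3, 9, 43), (3, 7, 39), (2, 7, 2), (2, 9, 24), (3, 8, 96), (2, 9, 43), (2, 7, 16), (3, 7, 74), (3, 7, 63), (3, 7, 71), (3, 10, 33), (3, 4, 9), (3, 10, 26), (2, 7, 0), (2, 8, 10), (3, 9, 69), (3, 8, 31), (3, 9, 89), (3, 9, 35), (3, 9, 80), (3, 6, 41), (3, 9, 70)]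
def octadPos_2 : List (ℕ × ℕ × ℕ) := [(3, 11, 2), (2, 5, 8), (2, 9, 35), (2, 9, 49), (2, 1, 0), (3, 9, 64), (3, 11, 9), (3, 9, 50), (3, 9, 71), (3, 8, 95), (3, 8, 38), (2, 9, 1), (2, 5, 22), (2, 9, 0), (2, 9, 28), (3, 8, 51), (2, 9, 46), (2, 8, 45), (3, 9, 74), (2, 5, 23), (2, 9, 18), (3, 6, 0), (2, 9, 25), (2, 7, 46), (3, 6, 29), (3, 9, 37), (3, 9, 58), (2, 6, 36), (2, 5, 15), (3, 6, 6), (2, 3, 1), (2, 9, 14), (2, 8, 26), (2, 7, 21), (3, 9, 42), (3, 9, 88), (3, 8, 61), (3, 6, 14), (3, 8, 57), (3, 8, 89), (3, 6, 10), (2, 6, 6), (2, 3, 5), (2, 7, 56), (2, 5, 0), (3, 10, 13), (2, 8, 38), (2, 5, 11), (3, 9, 82), (3, 7, 57), (3, 7, 52), (2, 9, 2), (2, 11, 0), (3, 10, 46), (3, 8, 19), (3, 7, 31), (2, 6, 5), (2, 9, 6), (3, 8, 25), (3, 11, 15)]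
def octadPos_3 : List (ℕ × ℕ × ℕ) := [(1, 7, 0), (3, 9, 65), (2, 8, 24), (2, 8, 14), (3, 7, 26), (3, 10, 21), (2, 8, 58), (2, 7, 32), (3, 6, 30), (3, 9, 11), (3, 5, 18), (3, 8, 55), (3, 9, 12), (3, 6, 47), (2, 7, 26), (2, 7, 30), (3, 9, 47), (3, 7, 17), (3, 4, 0), (3, 9, 40), (3, 10, 45), (3, 8, 5), (2, 7, 6), (2, 4, 2), (3, 8, 8), (3, 7, 41), (3, 8, 16), (3, 7, 70), (1, 10, 1), (3, 11, 6), (2, 7, 35), (2, 7, 3), (3, 8, 59), (3, 7, 15), (2, 6, 34), (2, 9, 11), (2, 7, 12), (2, 7, 19), (3, 10, 17), (2, 8, 30), (2, 6, 12), (3, 10, 4), (2, 9, 42), (2, 7, 33), (3, 10, 27), (3, 4, 1), (2, 7, 11), (2, 7, 18), (3, 8, 85), (3, 7, 43), (2, 8, 29), (2, 8, 34), (2, 5, 4), (2, 8, 7), (3, 8, 46), (3, 8, 79), (2, 5, 17), (2, 8, 56), (2, 9, 31), (2, 9, 27)]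
def octadPos_4 : List (ℕ × ℕ × ℕ) := [(3, 8, 37), (3, 10, 48), (1, 5, 3), (2, 9, 19), (2, 9, 29), (3, 6, 23), (2, 8, 52), (2, 8, 40), (3, 3, 1), (3, 8, 24), (3, 6, 27), (3, 9, 45), (2, 9, 47), (2, 6, 20), (3, 6, 11), (3, 8, 87), (3, 9, 90), (3, 8, 20), (3, 11, 10), (3, 6, 24), (3, 7, 49), (3, 7, 62), (2, 6, 27), (2, 9, 37), (3, 7, 10), (3, 7, 68), (3, 10, 5), (2, 9, 45), (2, 4, 13), (3, 11, 0), (3, 7, 56), (3, 7, 18), (3, 7, 60), (3, 5, 17), (3, 8, 6), (3, 2, 3), (2, 4, 7), (2, 5, 20), (1, 2, 1), (3, 9, 83), (3, 5, 26), (2, 5, 16), (2, 8, 55), (3, 9, 0), (3, 9, 49), (3, 11, 1), (3, 6, 9), (3, 3, 2), (3, 7, 5), (3, 8, 9), (2, 8, 16), (2, 2, 0), (2, 8, 33), (2, 8, 1), (2, 7, 1), (2, 9, 5), (3, 8, 7), (3, 9, 78), (3, 7, 22), (3, 7, 65)]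
def octadPos_5 : List (ℕ × ℕ × ℕ) := [(3, 6, 15), (3, 9, 77), (3, 3, 7), (3, 8, 30), (3, 6, 46), (3, 5, 8), (3, 5, 16), (3, 6, 5), (3, 8, 0), (3, 5, 11), (3, 11, 5), (2, 8, 21), (2, 7, 4), (1, 8, 2), (3, 5, 19), (3, 11, 7), (3, 7, 72), (3, 7, 37), (3, 8, 86), (3, 7, 13), (3, 8, 88), (3, 5, 0), (3, 7, 30), (2, 10, 4), (2, 7, 48), (3, 3, 6), (3, 8, 81), (3, 10, 43), (1, 5, 2), (3, 10, 12), (2, 5, 18), (2, 8, 48), (3, 6, 39), (2, 10, 7), (2, 7, 17), (3, 6, 33), (3, 8, 97), (2, 7, 34), (2, 7, 42), (2, 5, 5), (2, 8, 8), (3, 7, 67), (3, 9, 26), (2, 7, 51), (2, 5, 13), (3, 9, 51), (2, 10, 11), (2, 2, 1), (3, 8, 70), (3, 8, 1), (2, 4, 0), (2, 7, 13), (2, 9, 34), (2, 6, 19), (2, 6, 22), (2, 8, 60), (3, 9, 3), (3, 10, 42), (3, 7, 6), (3, 8, 40)]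
def octadPos_6 : List (ℕ × ℕ × ℕ) := [(3, 10, 23), (3, 9, 85), (3, 10, 34), (2, 6, 31), (2, 3, 4), (3, 7, 36), (3, 8, 3), (2, 8, 57), (2, 10, 10), (3, 7, 75), (3, 8, 80), (2, 10, 2), (2, 9, 41), (3, 10, 32), (3, 6, 12), (3, 7, 14), (3, 9, 62), (3, 9, 2), (2, 9, 4), (2, 8, 46), (1, 4, 2), (3, 8, 17), (2, 8, 4), (2, 8, 41), (3, 6, 17), (3, 3, 5), (2, 9, 22), (2, 6, 13), (3, 8, 76), (3, 8, 21), (3, 9, 76), (3, 8, 82), (3, 10, 36), (3, 5, 23), (3, 7, 64), (3, 10, 19), (3, 11, 19), (3, 7, 48), (3, 3, 3), (2, 8, 39), (2, 6, 1), (2, 8, 35), (2, 8, 31), (3, 7, 59), (3, 10, 7), (3, 9, 4), (3, 7, 34), (3, 9, 8), (3, 11, 11), (1, 8, 3), (2, 6, 16), (2, 6, 14), (2, 9, 36), (2, 7, 7), (3, 9, 15), (3, 2, 0), (2, 6, 28), (2, 6, 29), (2, 9, 30), (2, 7, 47)]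
def octadPos_7 : List (ℕ × ℕ × ℕ) := [(3, 8, 62), (3, 8, 94), (1, 3, 1), (3, 6, 37), (3, 4, 3), (3, 11, 16), (3, 10, 0), (3, 1, 0), (3, 9, 30), (3, 10, 50), (3, 9, 32), (3, 10, 31), (3, 9, 34), (3, 7, 2), (3, 6, 35), (3, 9, 91), (3, 9, 56), (3, 9, 23), (3, 5, 13), (3, 5, 15), (2, 8, 19), (2, 5, 6), (1, 6, 1), (3, 8, 47), (3, 8, 84), (3, 9, 18), (3, 4, 5), (3, 9, 29), (3, 10, 22), (3, 6, 8), (2, 8, 64), (2, 6, 0), (2, 4, 5), (2, 9, 20), (3, 10, 16), (3, 6, 45), (3, 10, 49), (3, 8, 41), (3, 8, 69), (3, 9, 21), (3, 9, 79), (2, 6, 4), (2, 9, 16), (3, 5, 21), (3, 8, 74), (3, 9, 46), (3, 10, 20), (3, 9, 53), (3, 7, 46), (2, 7, 40), (2, 4, 9), (3, 10, 18), (3, 8, 53), (1, 4, 0), (3, 7, 23), (3, 7, 28), (3, 8, 50), (3, 9, 36), (2, 9, 15), (2, 6, 3)]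
def octadPos_8 : List (ℕ × ℕ × ℕ) := [(3, 10, 38), (3, 6, 31), (3, 6, 42), (3, 10, 28), (3, 7, 53), (3, 8, 14), (3, 6, 18), (1, 5, 4), (3, 6, 1), (3, 7, 21), (3, 9, 13), (3, 7, 40), (3, 4, 6), (3, 10, 29), (3, 8, 65), (3, 7, 3), (2, 8, 2), (2, 10, 8), (1, 9, 1), (3, 8, 11), (3, 8, 93), (3, 5, 4), (3, 4, 12), (3, 7, 16), (1, 7, 1), (3, 8, 32), (2, 9, 23), (2, 9, 13), (2, 10, 0), (2, 8, 0), (2, 7, 5), (2, 10, 6), (2, 4, 4), (2, 9, 21), (2, 9, 12), (2, 6, 38), (3, 7, 47), (3, 7, 58), (3, 8, 10), (3, 9, 38), (3, 7, 24), (3, 5, 14), (3, 7, 4), (3, 11, 18), (2, 8, 3), (2, 9, 3), (2, 9, 44), (2, 10, 9), (3, 3, 0), (2, 8, 43), (2, 8, 47), (3, 9, 17), (3, 8, 29), (3, 8, 36), (3, 6, 44), (2, 2, 3), (2, 8, 11), (3, 9, 24), (3, 5, 20), (2, 7, 44)]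
def octadPos_9 : List (ℕ × ℕ × ℕ) := [(2, 7, 43), (2, 9, 33), (2, 6, 18), (3, 7, 20), (3, 5, 25), (2, 9, 26), (2, 7, 20), (1, 7, 3), (2, 8, 17), (2, 5, 2), (3, 11, 17), (3, 2, 2), (3, 7, 35), (3, 7, 55), (3, 8, 56), (3, 7, 29), (3, 9, 87), (3, 8, 78), (3, 5, 24), (3, 8, 34), (3, 7, 19), (3, 7, 25), (2, 6, 11), (2, 6, 7), (3, 6, 16), (3, 7, 9), (2, 8, 20), (2, 5, 7), (3, 8, 58), (3, 6, 38), (2, 6, 33), (2, 9, 10), (3, 6, 22), (3, 6, 26), (3, 6, 2), (3, 6, 36), (3, 3, 4), (3, 8, 44), (3, 10, 8), (2, 6, 23), (2, 8, 61), (3, 2, 1), (3, 11, 13), (1, 9, 0), (3, 4, 2), (3, 7, 0), (2, 7, 52), (2, 6, 24), (3, 7, 33), (3, 10, 35), (2, 7, 9), (2, 4, 10), (3, 7, 54), (3, 8, 15), (2, 9, 38), (2, 6, 30), (3, 7, 73), (3, 1, 1), (3, 4, 13), (3, 9, 5)]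
def octadPos_10 : List (ℕ × ℕ × ℕ) := [(3, 8, 23), (2, 7, 41), (2, 7, 36), (3, 8, 18), (1, 0, 0), (3, 9, 54), (3, 9, 39), (3, 9, 28), (3, 5, 22), (3, 9, 72), (3, 8, 39), (3, 9, 84), (3, 8, 52), (3, 10, 47), (2, 9, 7), (2, 5, 12), (3, 4, 15), (3, 10, 39), (3, 6, 28), (3, 10, 2), (3, 7, 8), (3, 11, 12), (1, 4, 1), (3, 9, 48), (3, 8, 63), (3, 10, 9), (3, 8, 71), (2, 6, 9), (2, 8, 6), (2, 10, 1), (2, 4, 12), (3, 8, 92), (3, 6, 43), (3, 6, 19), (2, 6, 17), (2, 6, 15), (3, 9, 60), (3, 9, 31), (3, 9, 73), (3, 9, 41), (3, 0, 0), (3, 7, 66), (3, 10, 3), (3, 6, 40), (3, 9, 10), (3, 10, 37), (3, 4, 4), (3, 9, 20), (3, 4, 11), (3, 7, 61), (3, 4, 7), (2, 6, 32), (2, 9, 40), (1, 6, 0), (2, 7, 38), (2, 8, 59), (3, 9, 6), (3, 10, 1), (3, 6, 32), (3, 9, 16)]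
def octadPos_11 : List (ℕ × ℕ × ℕ) := [(3, 8, 12), (3, 7, 51), (3, 8, 13), (3, 9, 81), (3, 10, 41), (1, 2, 0), (2, 6, 35), (2, 5, 14), (1, 8, 1), (3, 8, 42), (3, 8, 91), (3, 8, 66), (3, 7, 69), (3, 9, 63), (3, 7, 42), (3, 10, 6), (3, 9, 68), (3, 4, 8), (3, 8, 75), (1, 3, 0), (3, 5, 3), (3, 9, 52), (2, 10, 12), (2, 8, 23), (3, 10, 25), (2, 4, 1), (2, 7, 14), (3, 8, 68), (3, 9, 67), (3, 4, 14), (2, 10, 3), (2, 7, 8), (3, 10, 24), (3, 8, 73), (3, 7, 32), (2, 8, 36), (2, 7, 50), (1, 5, 0), (3, 8, 54), (3, 8, 67), (3, 5, 5), (3, 6, 4), (3, 5, 2), (3, 9, 22), (3, 6, 21), (3, 5, 7), (3, 9, 14), (3, 7, 11), (3, 9, 55), (3, 6, 25), (3, 8, 43), (2, 8, 37), (2, 8, 32), (3, 10, 30), (3, 7, 44), (3, 6, 3), (3, 8, 33), (3, 9, 27), (1, 8, 0), (3, 8, 22)]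
def octadPos_12 : List (ℕ × ℕ × ℕ) := [(3, 6, 48), (3, 6, 13), (3, 6, 20), (3, 7, 45), (3, 10, 40), (3, 9, 59), (3, 10, 44), (3, 9, 19), (3, 5, 6), (3, 11, 3), (3, 8, 72), (2, 2, 2), (2, 8, 49), (1, 4, 3), (3, 8, 83), (3, 9, 7), (3, 8, 2), (1, 5, 1), (3, 8, 77), (3, 11, 4), (2, 9, 8), (2, 6, 37), (3, 8, 48), (1, 10, 0), (3, 4, 10), (3, 7, 12), (3, 8, 35), (3, 8, 98), (3, 11, 8), (3, 7, 7), (3, 8, 27), (1, 7, 2), (3, 9, 33), (3, 8, 28), (3, 11, 14), (3, 9, 25), (3, 12, 1), (1, 3, 2), (3, 6, 34)]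
def octadPos : List (ℕ × ℕ × ℕ) := octadPos_0
  ++ octadPos_1
  ++ octadPos_2
  ++ octadPos_3
  ++ octadPos_4
  ++ octadPos_5
  ++ octadPos_6
  ++ octadPos_7
  ++ octadPos_8
  ++ octadPos_9
  ++ octadPos_10
  ++ octadPos_11
  ++ octadPos_12
/-- The certificate for the suborbits at the base octad. -/
def octadCert : Cert ℕ where
  base := 13062145
  gens := [393663561312989929045046603821010174669884887555839296791, 565111859556712201712819486414074145627061540824381719056]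
  classes := [(10558, [octadL0_0, octadL0_1, octadL0_2, octadL0_3, octadL0_4, octadL0_5, octadL0_6, octadL0_7, octadL0_8, octadL0_9]),
    (9347075, [octadL1_0, octadL1_1, octadL1_2, octadL1_3, octadL1_4, octadL1_5, octadL1_6, octadL1_7, octadL1_8, octadL1_9, octadL1_10]),
    (10496547, [octadL2_0, octadL2_1, octadL2_2, octadL2_3, octadL2_4, octadL2_5, octadL2_6, octadL2_7, octadL2_8, octadL2_9, octadL2_10, octadL2_11])]
  pos := octadPos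
  movers := [(25768458896838953057715957886030830191392399393298585346, (0, 0), [(0, (4, 1), 1, 7, 45), (1, (0, 0), 2, 9, 17)]),
    (563966621022008034872610010459283104912152472845665108481, (0, 0), [(1, (6, 37), 2, 10, 24), (1, (9, 17), 0, 1, 0)]),
    (565976893111451123696566449653690447839358251609054511616, (0, 0), [(2, (0, 0), 1, 8, 8), (2, (9, 85), 0, 7, 1)])]

end CfsgLib.M24Orbits
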