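import Cfsg.Agent.Lib.Golay.Basic
import Cfsg.Agent.Lib.Comp.PermChain

/-!
Permutations of the 24 points from byte codes, their action on masks, and membership in the group of
the code.
-/

set_option autoImplicit false

namespace CfsgLib.M24Orbits

open Cfsg CfsgLib.Comp
open scoped Pointwise

/-- The points numbered by bit positions. -/
def ptEquiv : GolayPt ≃ Fin 24 where
  toFun p := ⟨Golay.bit p, Golay.bit_lt p⟩
  invFun i := Golay.pt i
  left_inv := Golay.pt_bit
  right_inv i := Fin.ext (Golay.bit_pt i.2)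

/-- The permutation of the points with byte code `p`. -/
noncomputable def perm (p : ℕ) : Equiv.Perm GolayPt := ptEquiv.symm.permCongr (PermCode.val 24 p)

theorem bit_perm {p : ℕ} (h : PermCode.Ok 24 p) (a : GolayPt) :
    Golay.bit (perm p a) = PermCode.get p (Golay.bit a) := by
  have e : ptEquiv (perm p a) = PermCode.val 24 p (ptEquiv a) := by simp [perm, Equiv.permCongr_apply]
  have := congrArg Fin.val e
  rw [PermCode.val_apply h] at this
  exact this

/-- Image of a mask under a coded permutation, from its lowest `k` bits. -/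
noncomputable def appK (p m k : ℕ) : ℕ :=
  Nat.rec 0 (fun j ih => Nat.lor ih
    (Nat.shiftLeft (Nat.land (Nat.shiftRight m j) 1) (PermCode.get p j))) k

/-- Image of a mask under a coded permutation. -/
noncomputable def app (p m : ℕ) : ℕ := appK p m 24

theorem appK_succ (p m k : ℕ) :
    appK p m (k + 1) = appK p m k ||| (((m >>> k) &&& 1) <<< PermCode.get p k) := rfl

theorem testBit_appK (p m : ℕ) : ∀ k j, (appK p m k).testBit j = true ↔
    ∃ i, i < k ∧ m.testBit i = true ∧ PermCode.get p i = j
  | 0, j => by simp [show appK p m 0 = 0 from rfl]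
  | k + 1, j => by
    rw [appK_succ, Nat.testBit_or, Bool.or_eq_true, testBit_appK p m k j]
    have h1 : (((m >>> k) &&& 1) <<< PermCode.get p k).testBit j = true ↔
        m.testBit k = true ∧ PermCode.get p k = j := by
      rw [Nat.and_one_is_mod, Nat.testBit_eq_decide_div_mod_eq (x := m), ← Nat.shiftRight_eq_div_pow]
      rcases Nat.mod_two_eq_zero_or_one (m >>> k) with h | h <;> rw [h]
      · simp
      · rw [Nat.one_shiftLeft, Nat.testBit_two_pow]; simp
    rw [h1]
    constructor
    · rintro (⟨i, hi, h⟩ | h)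
      · exact ⟨i, by omega, h⟩
      · exact ⟨k, by omega, h⟩
    · rintro ⟨i, hi, h⟩
      rcases Nat.lt_succ_iff_lt_or_eq.1 hi with hi | rfl
      · exact .inl ⟨i, hi, h⟩
      · exact .inr h

theorem toSet_app {p : ℕ} (h : PermCode.Ok 24 p) (m : ℕ) :
    Golay.toSet (app p m) = perm p • Golay.toSet m := by
  ext a
  rw [Golay.mem_toSet, app, testBit_appK, Finset.mem_smul_finset]
  constructor
  · rintro ⟨i, hi, hm, he⟩
    refine ⟨Golay.pt i, by rw [Golay.mem_toSet, Golay.bit_pt hi]; exact hm, Golay.bit_injective ?_⟩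
    rw [Equiv.Perm.smul_def, bit_perm h, Golay.bit_pt hi, he]
  · rintro ⟨b, hb, rfl⟩
    exact ⟨Golay.bit b, Golay.bit_lt b, Golay.mem_toSet.1 hb, (bit_perm h b).symm⟩

theorem app_lt {p : ℕ} (h : PermCode.Ok 24 p) (m : ℕ) : app p m < 2 ^ 24 := by
  refine Nat.lt_pow_two_of_testBit _ fun j hj => ?_
  rw [Bool.eq_false_iff]
  intro ht
  obtain ⟨i, hi, -, he⟩ := (testBit_appK p m 24 j).1 ht
  have := h.1 i hi
  omega

/-- The test for a coded permutation to preserve the code. -/
noncomputable def okM24 (p : ℕ) : Bool :=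
  PermCode.okb 24 p && Golay.basis.all fun b => Golay.memb (app p b)

theorem okM24_ok {p : ℕ} (h : okM24 p = true) : PermCode.Ok 24 p := by
  simp only [okM24, Bool.and_eq_true] at h
  exact PermCode.ok_of_okb h.1

theorem support₂_comp (σ : Equiv.Perm GolayPt) (w : GolayPt → ZMod 2) :
    support₂ (w ∘ σ.symm) = σ • support₂ w := by
  ext a
  rw [Finset.mem_smul_finset]
  simp only [support₂, Finset.mem_filter, Finset.mem_univ, true_and, Function.comp_apply,
    Equiv.Perm.smul_def]
  exact ⟨fun h => ⟨_, h, σ.apply_symm_apply a⟩, fun ⟨b, hb, e⟩ => by rw [← e]; simpa using hb⟩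

theorem perm_mem_M24 {p : ℕ} (h : okM24 p = true) : perm p ∈ M24 := by
  have hok := okM24_ok h
  simp only [okM24, Bool.and_eq_true, List.all_eq_true] at h
  let L : (GolayPt → ZMod 2) →ₗ[ZMod 2] (GolayPt → ZMod 2) :=
    LinearMap.funLeft (ZMod 2) (ZMod 2) (perm p).symm
  have hb : ∀ b ∈ Golay.basis, Golay.toWord b ∈ Submodule.comap L golayCode := by
    intro b hb
    rw [Submodule.mem_comap]
    have : L (Golay.toWord b) = Golay.toWord (app p b) := Golay.support₂_injective (by
      rw [show L (Golay.toWord b) = Golay.toWord b ∘ (perm p).symm from rfl, support₂_comp,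
        Golay.support₂_toWord, Golay.support₂_toWord, toSet_app hok])
    rw [this]
    exact (Golay.toWord_mem_iff (app_lt hok b)).2 (h.2 b hb)
  set S := supports (golayCode : Set (GolayPt → ZMod 2))
  have hsub : perm p • S ⊆ S := by
    rintro s ⟨t, ⟨w, hw, rfl⟩, rfl⟩
    obtain ⟨x, -, rfl⟩ := Golay.mem_golay_iff.1 hw
    exact ⟨Golay.toWord (Golay.comb x) ∘ (perm p).symm,
      Submodule.mem_comap.1 (Golay.toWord_comb_mem_of (M := Submodule.comap L golayCode) hb x),
      support₂_comp _ _⟩
  exact Set.eq_of_subset_of_ncard_le hsub (by rw [Set.ncard_smul_set]) (Set.toFinite _)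

theorem smul_mem_supports {g : Equiv.Perm GolayPt} (hg : g ∈ M24) {s : Finset GolayPt}
    (hs : s ∈ supports (golayCode : Set (GolayPt → ZMod 2))) :
    g • s ∈ supports (golayCode : Set (GolayPt → ZMod 2)) := by
  rw [← show g • supports (golayCode : Set (GolayPt → ZMod 2)) = supports _ from hg]
  exact Set.smul_mem_smul_set hs

theorem smul_mem_wordsOfWeight {g : Equiv.Perm GolayPt} (hg : g ∈ M24) {k : ℕ} {s : Finset GolayPt}
    (hs : s ∈ wordsOfWeight (golayCode : Set (GolayPt → ZMod 2)) k) :
    g • s ∈ wordsOfWeight (golayCode : Set (GolayPt → ZMod 2)) k :=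
  ⟨smul_mem_supports hg hs.1, by rw [Finset.card_smul_finset]; exact hs.2⟩

/-- A coded permutation that passes the test, as an element of the group of the code. -/
noncomputable def elt (p : ℕ) (h : okM24 p = true) : M24 := ⟨perm p, perm_mem_M24 h⟩

end CfsgLib.M24Orbits
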