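import Cfsg.Agent.Lib.M24Orbits.TriadCheck
import Cfsg.Agent.Lib.M24Orbits.Suborbits

/-! The group of the code on triples of points. -/

set_option autoImplicit false

namespace CfsgLib.M24Orbits

open Cfsg MulAction
open scoped Pointwise

/-- Whether a mask lies under some octad mask. -/
def underOctad (n : ℕ) : Bool := octadList.any fun o => Nat.beq (o &&& n) n

open Classical in
/-- The invariant of a triple `U` relative to the base triple. -/
noncomputable def triadInv (U : Finset GolayPt) : ℕ × Bool :=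
  ((Golay.toSet triadCert.base ∩ U).card,
    decide (∃ o ∈ octads, Golay.toSet triadCert.base ∪ U ⊆ o))

theorem underOctad_iff (n : ℕ) (hn : n < 2 ^ 24) :
    underOctad n = true ↔ ∃ o ∈ octads, Golay.toSet n ⊆ o := by
  constructor
  · intro h
    obtain ⟨b, hb, e⟩ := List.any_eq_true.1 h
    simp only [octadList, List.mem_filter, codeList, List.mem_map, List.mem_range] at hb
    obtain ⟨⟨x, hx, rfl⟩, hk⟩ := hb
    rw [Golay.pc24_eq, Nat.beq_eq] at hk
    refine ⟨_, Golay.mem_wordsOfWeight_iff.2 ⟨x, hx, hk, rfl⟩, ?_⟩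
    rw [← Finset.inter_eq_right, ← Golay.toSet_and, Nat.eq_of_beq_eq_true e]
  · rintro ⟨o, ho, hsub⟩
    obtain ⟨b, hb, rfl⟩ := exists_octadList ho
    refine List.any_eq_true.2 ⟨b, hb, ?_⟩
    rw [Nat.beq_eq]
    exact Golay.toSet_inj (lt_of_le_of_lt Nat.and_le_right hn) hn
      (by rw [Golay.toSet_and, Finset.inter_eq_right.2 hsub])

theorem triadInv_rep (i : Fin 4) :
    triadInv (Cert.rep triadCert setCoding i) =
      ((Golay.toSet triadCert.base ∩ Cert.rep triadCert setCoding i).card,
        underOctad (triadCert.base ||| Cert.repObj triadCert i)) := by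
  classical
  refine Prod.ext rfl ?_
  have hlt : ∀ j : Fin 4, triadCert.base ||| Cert.repObj triadCert j < 2 ^ 24 := by decide +kernel
  show decide _ = _
  rw [Bool.eq_iff_iff, decide_eq_true_iff, underOctad_iff _ (hlt i), Golay.toSet_or]
  rfl

theorem exists_bit_triple {p q r : GolayPt} (hpq : p ≠ q) (hpr : p ≠ r) (hqr : q ≠ r) :
    ∃ i j k, i < j ∧ j < k ∧ k < 24 ∧
      ({p, q, r} : Finset GolayPt) = Golay.toSet (2 ^ i ||| 2 ^ j ||| 2 ^ k) := by
  have tr : ∀ a b c : GolayPt, Golay.bit a < Golay.bit b → Golay.bit b < Golay.bit c →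
      ({a, b, c} : Finset GolayPt) = {p, q, r} →
      ∃ i j k, i < j ∧ j < k ∧ k < 24 ∧
        ({p, q, r} : Finset GolayPt) = Golay.toSet (2 ^ i ||| 2 ^ j ||| 2 ^ k) := by
    intro a b c h1 h2 e
    refine ⟨_, _, _, h1, h2, Golay.bit_lt c, ?_⟩
    rw [← e, Golay.toSet_or, Golay.toSet_or, toSet_two_pow (Golay.bit_lt a),
      toSet_two_pow (Golay.bit_lt b), toSet_two_pow (Golay.bit_lt c), Golay.pt_bit, Golay.pt_bit,
      Golay.pt_bit]
    ext x; simp [or_assoc]
  have ne := fun (a b : GolayPt) (h : a ≠ b) (e : Golay.bit a = Golay.bit b) =>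
    h (Golay.bit_injective e)
  rcases lt_or_gt_of_ne (ne p q hpq) with h1 | h1 <;>
    rcases lt_or_gt_of_ne (ne p r hpr) with h2 | h2 <;>
    rcases lt_or_gt_of_ne (ne q r hqr) with h3 | h3
  all_goals
    first
      | (exact tr p q r h1 h3 (by ext x; simp))
      | (exact tr p r q h2 h3 (by ext x; simp; tauto))
      | (exact tr q p r h1 h2 (by ext x; simp; tauto))
      | (exact tr q r p h3 h2 (by ext x; simp; tauto))
      | (exact tr r p q h2 h1 (by ext x; simp; tauto))
      | (exact tr r q p h3 h1 (by ext x; simp; tauto))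
      | omega

/-- The suborbits on triples of points. -/
noncomputable def triadDeg :
    SubDeg M24 {s : Finset GolayPt | s.card = 3} (Golay.toSet triadCert.base) 4 :=
  Cert.subDeg' triad_ok
    (fun g y hy => by
      show ((g : Equiv.Perm GolayPt) • y).card = 3
      rw [Finset.card_smul_finset]; exact hy)
    (show (Golay.toSet triadCert.base).card = 3 by decide +kernel)
    (fun y hy => by
      obtain ⟨p, q, r, hpq, hpr, hqr, rfl⟩ := Finset.card_eq_three.1 (show y.card = 3 from hy)
      obtain ⟨i, j, k, hij, hjk, hk, e⟩ := exists_bit_triple hpq hpr hqr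
      refine ⟨2 ^ i ||| 2 ^ j ||| 2 ^ k, List.mem_flatMap.2 ⟨k, List.mem_range.2 hk,
        List.mem_flatMap.2 ⟨j, List.mem_range.2 hjk,
          List.mem_map.2 ⟨i, List.mem_range.2 hij, rfl⟩⟩⟩, fun w hw _ => ?_⟩
      rw [← Nat.eq_of_beq_eq_true hw, e]; rfl)
    (Set.toFinite _)
    (by
      rw [show {s : Finset GolayPt | s.card = 3} = ↑((Finset.univ : Finset GolayPt).powersetCard 3) by
        ext s; simp, Set.ncard_coe_finset, Finset.card_powersetCard, GolayDesign.card_univ_pt]
      decide +kernel)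
    triadInv
    (fun g hg y _ => by
      classical
      have e : g • Golay.toSet triadCert.base = Golay.toSet triadCert.base := hg
      refine Prod.ext (inter_inv g hg y) ?_
      show decide _ = decide _
      rw [Bool.eq_iff_iff, decide_eq_true_iff, decide_eq_true_iff]
      constructor
      · rintro ⟨o, ho, hs⟩
        refine ⟨g⁻¹ • o, smul_mem_octads _ ho, ?_⟩
        show _ ⊆ ((g⁻¹ : M24) : Equiv.Perm GolayPt) • o
        rw [Subgroup.coe_inv, ← Finset.smul_finset_subset_iff (a := (g : Equiv.Perm GolayPt)),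
          Finset.smul_finset_union]
        exact (congrArg (· ∪ _) e).trans_le hs
      · rintro ⟨o, ho, hs⟩
        refine ⟨g • o, smul_mem_octads _ ho, ?_⟩
        conv_lhs => rw [← e]
        show (g : Equiv.Perm GolayPt) • _ ∪ (g : Equiv.Perm GolayPt) • y ⊆ (g : Equiv.Perm GolayPt) • o
        rw [← Finset.smul_finset_union]
        exact Finset.smul_finset_subset_smul_finset hs)
    (by
      have key : ∀ i j : Fin 4,
          ((Golay.toSet triadCert.base ∩ Cert.rep triadCert setCoding i).card,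
            underOctad (triadCert.base ||| Cert.repObj triadCert i)) =
          ((Golay.toSet triadCert.base ∩ Cert.rep triadCert setCoding j).card,
            underOctad (triadCert.base ||| Cert.repObj triadCert j)) → i = j := by decide +kernel
      intro i j h
      exact key i j ((triadInv_rep i).symm.trans (h.trans (triadInv_rep j))))
    (by
      have key : ∀ i : Fin 4, (Golay.toSet triadCert.base ∩ Cert.rep triadCert setCoding i).card
          = (Golay.toSet triadCert.base ∩ Golay.toSet triadCert.base).card → False := by decide +kernel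
      intro i h
      exact key i (congrArg Prod.fst h))

theorem triad_transitive {T : Finset GolayPt} (hT : T.card = 3) :
    ∃ k : M24, k • Golay.toSet triadCert.base = T :=
  Cert.transitive triad_ok triadDeg rfl T hT

theorem triad_maximal {T : Finset GolayPt} (hT : T.card = 3) : IsCoatom (stabilizer M24 T) := by
  obtain ⟨k, rfl⟩ := triad_transitive hT
  exact isCoatom_stabilizer_smul k _ (Cert.isCoatom triad_ok triadDeg rfl triad_closed (by decide))

theorem triad_disjoint_facts {T : Finset GolayPt} (hT : T.card = 3) :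
    {U : Finset GolayPt | U.card = 3 ∧ Disjoint T U ∧ ∃ o ∈ octads, T ∪ U ⊆ o}.ncard = 210 ∧
    {U : Finset GolayPt | U.card = 3 ∧ Disjoint T U ∧ ¬ ∃ o ∈ octads, T ∪ U ⊆ o}.ncard = 1120 ∧
    ∀ U U' : Finset GolayPt, U.card = 3 → U'.card = 3 → Disjoint T U → Disjoint T U' →
      ((∃ o ∈ octads, T ∪ U ⊆ o) ↔ ∃ o ∈ octads, T ∪ U' ⊆ o) →
      ∃ g : Equiv.Perm GolayPt, g ∈ M24 ∧ g • T = T ∧ g • U = U' := by
  classical
  obtain ⟨k, rfl⟩ := triad_transitive hT
  set a := Golay.toSet triadCert.base with ha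
  have hinv : ∀ U : Finset GolayPt, (Disjoint (k • a) U ↔ (a ∩ k⁻¹ • U).card = 0) ∧
      ((∃ o ∈ octads, k • a ∪ U ⊆ o) ↔ ∃ o ∈ octads, a ∪ k⁻¹ • U ⊆ o) := by
    intro U
    obtain ⟨V, rfl⟩ : ∃ V, U = k • V := ⟨k⁻¹ • U, (smul_inv_smul _ _).symm⟩
    rw [inv_smul_smul]
    constructor
    · rw [Finset.card_eq_zero, Finset.disjoint_iff_inter_eq_empty]
      show (k : Equiv.Perm GolayPt) • a ∩ (k : Equiv.Perm GolayPt) • V = ∅ ↔ _
      rw [← Finset.smul_finset_inter, Finset.smul_finset_eq_empty]
    · constructor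
      · rintro ⟨o, ho, hs⟩
        refine ⟨k⁻¹ • o, smul_mem_octads _ ho, ?_⟩
        show _ ⊆ ((k⁻¹ : M24) : Equiv.Perm GolayPt) • o
        rw [Subgroup.coe_inv, ← Finset.smul_finset_subset_iff (a := (k : Equiv.Perm GolayPt)),
          Finset.smul_finset_union]
        exact hs
      · rintro ⟨o, ho, hs⟩
        refine ⟨k • o, smul_mem_octads _ ho, ?_⟩
        show (k : Equiv.Perm GolayPt) • a ∪ (k : Equiv.Perm GolayPt) • V ⊆ (k : Equiv.Perm GolayPt) • o
        rw [← Finset.smul_finset_union]
        exact Finset.smul_finset_subset_smul_finset hs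
  have hmem : ∀ U : Finset GolayPt, U.card = 3 → Disjoint (k • a) U →
      k⁻¹ • U ∈ {s : Finset GolayPt | s.card = 3} ∧ k⁻¹ • U ≠ a ∧
      triadInv (k⁻¹ • U) = (0, decide (∃ o ∈ octads, k • a ∪ U ⊆ o)) := by
    intro U hU hd
    refine ⟨triadDeg.inv k⁻¹ U hU, fun e => ?_, Prod.ext ((hinv U).1.1 hd) ?_⟩
    · have := (hinv U).1.1 hd
      rw [e, Finset.inter_self, show a.card = 3 from triadDeg.a_mem] at this
      exact absurd this (by norm_num)
    · show decide _ = decide _
      rw [Bool.eq_iff_iff, decide_eq_true_iff, decide_eq_true_iff]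
      exact (hinv U).2.symm
  have hcount : ∀ (i : Fin 4) (b : Bool), triadInv (triadDeg.rep i) = (0, b) →
      {U : Finset GolayPt | U.card = 3 ∧ Disjoint (k • a) U ∧
        decide (∃ o ∈ octads, k • a ∪ U ⊆ o) = b}.ncard = triadDeg.len i := by
    intro i b hi
    rw [← triadDeg.ncard_class i]
    refine (congrArg Set.ncard ?_).trans (Set.ncard_image_of_injective _ (MulAction.injective k))
    ext U
    simp only [Set.mem_image, Set.mem_ofPred_eq]
    constructor
    · rintro ⟨hU, hd, hb⟩
      obtain ⟨h1, h2, h3⟩ := hmem U hU hd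
      exact ⟨k⁻¹ • U, ⟨h1, h2, by show triadInv _ = triadInv (triadDeg.rep i); rw [h3, hi, hb]⟩, smul_inv_smul _ _⟩
    · rintro ⟨V, ⟨hV, -, hf⟩, rfl⟩
      have hf' : triadInv V = (0, b) := hf.trans hi
      have hdis : Disjoint (k • a) (k • V) := by
        rw [(hinv _).1, inv_smul_smul]
        exact congrArg Prod.fst hf'
      refine ⟨triadDeg.inv k V hV, hdis, ?_⟩
      have := (hmem _ (triadDeg.inv k V hV) hdis).2.2
      rw [inv_smul_smul, hf'] at this
      exact (congrArg Prod.snd this).symm
  refine ⟨?_, ?_, ?_⟩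
  · have h := hcount 1 true ((triadInv_rep 1).trans (by decide +kernel))
    simp only [decide_eq_true_iff] at h
    exact h.trans (by decide +kernel : Cert.size triadCert (1 : Fin 4) = 210)
  · have h := hcount 3 false ((triadInv_rep 3).trans (by decide +kernel))
    simp only [decide_eq_false_iff_not] at h
    exact h.trans (by decide +kernel : Cert.size triadCert (3 : Fin 4) = 1120)
  · intro U U' hU hU' hd hd' hiff
    obtain ⟨h1, h2, h3⟩ := hmem U hU hd
    obtain ⟨h1', h2', h3'⟩ := hmem U' hU' hd'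
    obtain ⟨s, hsa, hs⟩ := triadDeg.same_class h1 h1' h2 h2'
      (by show triadInv _ = triadInv _; rw [h3, h3']; simp [hiff])
    refine ⟨(k * s * k⁻¹ : M24), SetLike.coe_mem _, ?_, ?_⟩
    · show (k * s * k⁻¹ : M24) • k • a = k • a
      rw [mul_smul, mul_smul, inv_smul_smul, hsa]
    · show (k * s * k⁻¹ : M24) • U = U'
      rw [mul_smul, mul_smul, hs, smul_inv_smul]

end CfsgLib.M24Orbits
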