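import Cfsg.Agent.Lib.M24Orbits.TrioCheck
import Cfsg.Agent.Lib.M24Orbits.Suborbits

/-! The group of the code on trios. -/

set_option autoImplicit false

namespace CfsgLib.M24Orbits

open Cfsg MulAction
open scoped Pointwise

theorem trioBase_mem : famDec trioCert.base ∈ trios := by
  refine ⟨(famDec_card (by decide +kernel) (by decide +kernel)).trans (by decide +kernel), ?_, ?_⟩
  · have h : (trioCert.base.all isOct) = true := by decide +kernel
    exact famDec_forall fun x hx => mem_octads_of_isOct (List.all_eq_true.1 h x hx)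
  · have h : (trioCert.base.all fun x => trioCert.base.all fun y =>
        Nat.beq x y || Nat.beq (x &&& y) 0) = true := by decide +kernel
    refine famDec_forall fun x hx => famDec_forall fun y hy hne => ?_
    have := List.all_eq_true.1 (List.all_eq_true.1 h x hx) y hy
    rcases (Bool.or_eq_true _ _).mp this with e | e
    · exact absurd (by rw [Nat.eq_of_beq_eq_true e]) hne
    · rw [Finset.disjoint_iff_inter_eq_empty, ← Golay.toSet_and, Nat.eq_of_beq_eq_true e]
      ext p; simp [Golay.mem_toSet]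

theorem exists_trioList {T : Finset (Finset GolayPt)} (hT : T ∈ trios) :
    ∃ b ∈ trioList, Golay.toSet b.1 ∈ T ∧ Golay.toSet b.2 ∈ T ∧ Golay.toSet b.1 ≠ Golay.toSet b.2 := by
  classical
  have hdis : (T : Set (Finset GolayPt)).PairwiseDisjoint id := fun t ht u hu hne =>
    hT.2.2 t ht u hu hne
  have huniv : T.biUnion id = Finset.univ := Finset.eq_univ_of_card _ (by
    rw [Finset.card_biUnion hdis,
      Finset.sum_congr rfl (fun t ht => show (id t).card = 8 from (hT.2.1 t ht).2), Finset.sum_const, hT.1]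
    simp)
  obtain ⟨o, ho, hon⟩ := Finset.mem_biUnion.1 (huniv ▸ Finset.mem_univ (none : GolayPt) : none ∈ T.biUnion id)
  obtain ⟨a, ha, rfl⟩ := exists_octadList (hT.2.1 o ho)
  have htop : Nat.testBit a 23 = true := Golay.mem_toSet.1 hon
  have hlow : ∀ a ∈ octadList, ∃ i, i < 24 ∧ lowFree a = 2 ^ i ∧ a.testBit i = false := by
    have : (octadList.all fun a => (List.range 24).any fun i =>
        Nat.beq (lowFree a) (2 ^ i) && !(a.testBit i)) = true := by decide +kernel
    intro a ha
    obtain ⟨i, hi, h⟩ := List.any_eq_true.1 (List.all_eq_true.1 this a ha)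
    simp only [Bool.and_eq_true, Nat.beq_eq, Bool.not_eq_true'] at h
    exact ⟨i, List.mem_range.1 hi, h⟩
  obtain ⟨i, hi, hp, hai⟩ := hlow a ha
  obtain ⟨o', ho', hoi⟩ := Finset.mem_biUnion.1 (huniv ▸ Finset.mem_univ (Golay.pt i) : Golay.pt i ∈ T.biUnion id)
  obtain ⟨b, hb, rfl⟩ := exists_octadList (hT.2.1 o' ho')
  have hbi : b.testBit i = true := by
    have := Golay.mem_toSet.1 (show Golay.pt i ∈ Golay.toSet b from hoi)
    rwa [Golay.bit_pt hi] at this
  have hne : Golay.toSet a ≠ Golay.toSet b := fun e => by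
    have := Golay.mem_toSet.1 (e ▸ hoi : Golay.pt i ∈ Golay.toSet a)
    rw [Golay.bit_pt hi, hai] at this
    exact Bool.false_ne_true this
  refine ⟨(a, b), List.mem_flatMap.2 ⟨a, List.mem_filter.2 ⟨ha, htop⟩, List.mem_map.2
    ⟨b, List.mem_filter.2 ⟨hb, ?_⟩, rfl⟩⟩, ho, ho', hne⟩
  simp only [Bool.and_eq_true, Nat.beq_eq, Bool.not_eq_true']
  refine ⟨?_, ?_⟩
  · refine Nat.eq_of_testBit_eq fun j => ?_
    rw [Nat.zero_testBit, Bool.eq_false_iff]
    intro hj
    rw [Nat.testBit_and, Bool.and_eq_true] at hj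
    rcases Nat.lt_or_ge j 24 with hj24 | hj24
    · have h1 : Golay.pt j ∈ Golay.toSet a := by rw [Golay.mem_toSet, Golay.bit_pt hj24]; exact hj.1
      have h2 : Golay.pt j ∈ Golay.toSet b := by rw [Golay.mem_toSet, Golay.bit_pt hj24]; exact hj.2
      exact Finset.disjoint_left.1 (hT.2.2 _ ho _ ho' hne) h1 h2
    · have hlt : a < 2 ^ 24 := by
        have : (octadList.all fun a => Nat.blt a 16777216) = true := by decide +kernel
        simpa [Nat.blt_eq] using List.all_eq_true.1 this a ha
      rw [Nat.testBit_lt_two_pow (lt_of_lt_of_le hlt (Nat.pow_le_pow_right two_pos hj24))] at hj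
      exact Bool.false_ne_true hj.1
  · rw [hp, Bool.eq_false_iff]
    intro h0
    have := congrArg (fun n => Nat.testBit n i) (Nat.eq_of_beq_eq_true h0)
    simp [Nat.testBit_and, Nat.testBit_two_pow, hbi] at this

/-- The suborbits on trios. -/
noncomputable def trioDeg : SubDeg M24 trios (famDec trioCert.base) 4 :=
  Cert.subDeg' trio_ok (fun g _ hy => smul_mem_trios g hy) trioBase_mem
    (fun y hy => by
      obtain ⟨b, hb, h1, h2, hne⟩ := exists_trioList hy
      refine ⟨b, hb, fun r hr hrΩ => ?_⟩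
      simp only [hasMasks, Bool.and_eq_true] at hr
      exact (GolayDesign.trio_eq hrΩ (mem_of_hasMask hr.1) (mem_of_hasMask hr.2) hne).trans
        (GolayDesign.trio_eq hy h1 h2 hne).symm)
    (Set.toFinite _)
    (by rw [GolayDesign.ncard_trios]; decide +kernel)
    (meetCode (famDec trioCert.base))
    (fun g hg y _ => meetCode_inv g hg y)
    (by
      show ∀ i j : Fin 4, _ → i = j
      decide +kernel)
    (by
      show ∀ i : Fin 4, _
      decide +kernel)

theorem trio_transitive {T : Finset (Finset GolayPt)} (hT : T ∈ trios) :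
    ∃ k : M24, k • famDec trioCert.base = T :=
  Cert.transitive trio_ok trioDeg rfl T hT

theorem trio_facts {T : Finset (Finset GolayPt)} (hT : T ∈ trios) :
    ∃ X₁ ∈ trios, ∃ X₂ ∈ trios, ∃ X₃ ∈ trios, ∃ X₄ ∈ trios,
      (orbit (stabilizer M24 T) X₁).ncard = 42 ∧ (orbit (stabilizer M24 T) X₂).ncard = 56 ∧
      (orbit (stabilizer M24 T) X₃).ncard = 1008 ∧ (orbit (stabilizer M24 T) X₄).ncard = 2688 ∧
      trios = {T} ∪ orbit (stabilizer M24 T) X₁ ∪ orbit (stabilizer M24 T) X₂
        ∪ orbit (stabilizer M24 T) X₃ ∪ orbit (stabilizer M24 T) X₄ ∧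
      IsCoatom (stabilizer M24 T) := by
  obtain ⟨k, rfl⟩ := trio_transitive hT
  refine ⟨k • trioDeg.rep 0, trioDeg.rep_at_mem k 0, k • trioDeg.rep 1,
    trioDeg.rep_at_mem k 1, k • trioDeg.rep 2, trioDeg.rep_at_mem k 2,
    k • trioDeg.rep 3, trioDeg.rep_at_mem k 3, ?_, ?_, ?_, ?_, ?_,
    isCoatom_stabilizer_smul k _ (Cert.isCoatom trio_ok trioDeg rfl trio_closed (by decide))⟩
  · exact (trioDeg.ncard_orbit_at k 0).trans (by decide +kernel : Cert.size trioCert (0 : Fin 4) = 42)
  · exact (trioDeg.ncard_orbit_at k 1).trans (by decide +kernel : Cert.size trioCert (1 : Fin 4) = 56)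
  · exact (trioDeg.ncard_orbit_at k 2).trans (by decide +kernel : Cert.size trioCert (2 : Fin 4) = 1008)
  · exact (trioDeg.ncard_orbit_at k 3).trans (by decide +kernel : Cert.size trioCert (3 : Fin 4) = 2688)
  · refine (trioDeg.eq_cover_at k).trans ?_
    ext y
    simp only [Set.mem_union, Set.mem_singleton_iff, Set.mem_iUnion, Fin.exists_fin_succ, IsEmpty.exists_iff,
      Fin.succ_zero_eq_one, or_false, or_assoc]
    rfl

end CfsgLib.M24Orbits
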