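import Cfsg.Agent.Lib.M24Orbits.TrioData
import Cfsg.Agent.Lib.M24Orbits.Reps

/-! Kernel check of the certificate for the base trio. -/

set_option autoImplicit false

namespace CfsgLib.M24Orbits

open scoped Pointwise

theorem trio_ok : trioCert.ok famCoding hasMasks trioList = true := by decide +kernel

theorem trio_closed : trioCert.closed famCoding = true := by decide +kernel

end CfsgLib.M24Orbits
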